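import Mathlib
import Groth.Agent.Lib.Helper9.ComodFlag

/-!
# Unipotent groups in characteristic zero: the operators `T g = (id ⊗ g) ∘ ρ` (helper9)

For a comodule `(V, ρ)` over a commutative bialgebra `A` and `g` in the convolution algebra
`WithConv (A →ₗ[k] A)`, `T c g = (id ⊗ g) ∘ ρ : V → V ⊗ A`.  We prove `T (g * h) = m ∘ (T g ⊗ id) ∘ T h`
and, for unipotent `A`, that `x = id - 1` is locally nilpotent: `T (x ^ n) v = 0` for `n` large.
-/

set_option autoImplicit false

universe u v w w'

open TensorProduct WithConv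

namespace Groth.Agent.H9.UnipLie

section Basic

variable {k : Type u} [Field k] {A : Type v} [CommRing A] [Bialgebra k A]
  {V : Type w} [AddCommGroup V] [Module k V] {W : Type w'} [AddCommGroup W] [Module k W]

/-- `T c g = (id ⊗ g) ∘ ρ` -/
noncomputable def T (c : HopfRep.Comod k A V) (g : WithConv (A →ₗ[k] A)) : V →ₗ[k] V ⊗[k] A :=
  g.ofConv.lTensor V ∘ₗ c.coact

lemma T_apply (c : HopfRep.Comod k A V) (g : WithConv (A →ₗ[k] A)) (v : V) :
    T c g v = g.ofConv.lTensor V (c.coact v) := rfl

lemma T_add (c : HopfRep.Comod k A V) (g h : WithConv (A →ₗ[k] A)) :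
    T c (g + h) = T c g + T c h := by
  apply LinearMap.ext; intro v
  simp only [T_apply, LinearMap.add_apply]
  rw [WithConv.ofConv_add, LinearMap.lTensor_add, LinearMap.add_apply]

lemma T_sub (c : HopfRep.Comod k A V) (g h : WithConv (A →ₗ[k] A)) :
    T c (g - h) = T c g - T c h := by
  apply LinearMap.ext; intro v
  simp only [T_apply, LinearMap.sub_apply]
  rw [WithConv.ofConv_sub, LinearMap.lTensor_sub, LinearMap.sub_apply]

lemma T_smul (c : HopfRep.Comod k A V) (r : k) (g : WithConv (A →ₗ[k] A)) :
    T c (r • g) = r • T c g := by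
  apply LinearMap.ext; intro v
  simp only [T_apply, LinearMap.smul_apply]
  rw [WithConv.ofConv_smul, LinearMap.lTensor_smul, LinearMap.smul_apply]

lemma T_zero (c : HopfRep.Comod k A V) : T c 0 = 0 := by
  apply LinearMap.ext; intro v
  simp only [T_apply, LinearMap.zero_apply]
  rw [WithConv.ofConv_zero, LinearMap.lTensor_zero, LinearMap.zero_apply]

lemma T_sum (c : HopfRep.Comod k A V) {ι : Type*} (s : Finset ι) (g : ι → WithConv (A →ₗ[k] A)) :
    T c (∑ i ∈ s, g i) = ∑ i ∈ s, T c (g i) := by
  classical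
  induction s using Finset.induction_on with
  | empty => simp [T_zero]
  | insert a s ha ih => rw [Finset.sum_insert ha, Finset.sum_insert ha, T_add, ih]

variable (k A V) in
/-- `(v ⊗ a) ⊗ b ↦ v ⊗ ab` -/
noncomputable def mulR : (V ⊗[k] A) ⊗[k] A →ₗ[k] V ⊗[k] A :=
  LinearMap.lTensor V (LinearMap.mul' k A) ∘ₗ (TensorProduct.assoc k V A A).toLinearMap

@[simp] lemma mulR_tmul (v : V) (a b : A) :
    mulR k A V ((v ⊗ₜ[k] a) ⊗ₜ[k] b) = v ⊗ₜ[k] (a * b) := by
  simp [mulR]

lemma mulR_tmul_one (y : V ⊗[k] A) : mulR k A V (y ⊗ₜ[k] (1 : A)) = y := by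
  induction y using TensorProduct.induction_on with
  | zero => simp
  | tmul b a => simp
  | add x y hx hy => rw [TensorProduct.add_tmul, map_add, hx, hy]

lemma mulR_rTensor_rTensor (f : V →ₗ[k] W) (z : (V ⊗[k] A) ⊗[k] A) :
    mulR k A W ((f.rTensor A).rTensor A z) = f.rTensor A (mulR k A V z) := by
  induction z using TensorProduct.induction_on with
  | zero => simp
  | tmul y b =>
    induction y using TensorProduct.induction_on with
    | zero => simp
    | tmul v a => simp
    | add x y hx hy => simp only [TensorProduct.add_tmul, map_add, hx, hy]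
  | add x y hx hy => simp only [map_add, hx, hy]

private lemma aux1 (g h : A →ₗ[k] A) (s : V ⊗[k] A) (a : A) :
    LinearMap.lTensor V (LinearMap.mul' k A) (LinearMap.lTensor V (TensorProduct.map g h)
      (TensorProduct.assoc k V A A (s ⊗ₜ[k] a))) = mulR k A V ((g.lTensor V s) ⊗ₜ[k] h a) := by
  induction s using TensorProduct.induction_on with
  | zero => simp
  | tmul v b => simp
  | add x y hx hy => simp only [TensorProduct.add_tmul, map_add, hx, hy]

private lemma aux2 (g h : A →ₗ[k] A) (ρ : V →ₗ[k] V ⊗[k] A) (t : V ⊗[k] A) :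
    LinearMap.lTensor V (LinearMap.mul' k A) (LinearMap.lTensor V (TensorProduct.map g h)
      (TensorProduct.assoc k V A A (ρ.rTensor A t))) =
      mulR k A V ((g.lTensor V ∘ₗ ρ).rTensor A (h.lTensor V t)) := by
  induction t using TensorProduct.induction_on with
  | zero => simp
  | tmul v a =>
    rw [LinearMap.rTensor_tmul, aux1, LinearMap.lTensor_tmul, LinearMap.rTensor_tmul,
      LinearMap.comp_apply]
  | add x y hx hy => simp only [map_add, hx, hy]

/-- the fundamental multiplicativity of `T` -/
theorem T_mul (c : HopfRep.Comod k A V) (g h : WithConv (A →ₗ[k] A)) :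
    T c (g * h) = mulR k A V ∘ₗ (T c g).rTensor A ∘ₗ T c h := by
  apply LinearMap.ext; intro v
  have hco := LinearMap.congr_fun c.coassoc v
  simp only [LinearMap.coe_comp, Function.comp_apply, LinearEquiv.coe_coe] at hco
  rw [LinearMap.comp_apply, LinearMap.comp_apply, T_apply, T_apply, LinearMap.convMul_def,
    WithConv.ofConv_toConv, LinearMap.lTensor_comp, LinearMap.lTensor_comp, LinearMap.comp_apply,
    LinearMap.comp_apply, ← hco, aux2]
  rfl

lemma T_mul_apply (c : HopfRep.Comod k A V) (g h : WithConv (A →ₗ[k] A)) (v : V) :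
    T c (g * h) v = mulR k A V ((T c g).rTensor A (T c h v)) := by
  rw [T_mul]; rfl

lemma T_one_apply (c : HopfRep.Comod k A V) (v : V) :
    T c 1 v = v ⊗ₜ[k] (1 : A) := by
  have hcu := LinearMap.congr_fun c.counit_comp v
  simp only [LinearMap.coe_comp, Function.comp_apply, LinearMap.flip_apply,
    TensorProduct.mk_apply] at hcu
  rw [T_apply, LinearMap.convOne_def, WithConv.ofConv_toConv, LinearMap.lTensor_comp,
    LinearMap.comp_apply, hcu, LinearMap.lTensor_tmul]
  simp

lemma T_id (c : HopfRep.Comod k A V) : T c (toConv LinearMap.id) = c.coact := by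
  apply LinearMap.ext; intro v
  rw [T_apply, WithConv.ofConv_toConv, LinearMap.lTensor_id, LinearMap.id_apply]

variable (k A) in
/-- `x = id - 1` in the convolution algebra -/
noncomputable def xel : WithConv (A →ₗ[k] A) := toConv LinearMap.id - 1

lemma T_xel_apply (c : HopfRep.Comod k A V) (v : V) :
    T c (xel k A) v = c.coact v - v ⊗ₜ[k] (1 : A) := by
  rw [xel, T_sub, LinearMap.sub_apply, T_id, T_one_apply]

/-- slices of `T` -/
lemma slice_T (c : HopfRep.Comod k A V) (g : WithConv (A →ₗ[k] A)) (φ : A →ₗ[k] k) (v : V) :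
    Comod.slice φ (T c g v) = Comod.slice (φ ∘ₗ g.ofConv) (c.coact v) := by
  rw [T_apply, Comod.slice_lTensor]

/-- naturality of `T` under comodule maps -/
lemma T_natural (c : HopfRep.Comod k A V) (c' : HopfRep.Comod k A W) (f : V →ₗ[k] W)
    (hf : ∀ v, c'.coact (f v) = f.rTensor A (c.coact v)) (g : WithConv (A →ₗ[k] A)) (v : V) :
    T c' g (f v) = f.rTensor A (T c g v) := by
  rw [T_apply, T_apply, hf, ← LinearMap.comp_apply, LinearMap.lTensor_comp_rTensor,
    ← LinearMap.comp_apply (f.rTensor A), LinearMap.rTensor_comp_lTensor]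

end Basic

section Nilp

variable {k : Type u} [Field k] {A : Type v} [CommRing A] [Bialgebra k A]

/-- on a finite-dimensional comodule of a unipotent group, `x ^ n` acts as zero for `n ≥ dim` -/
theorem T_xel_pow_eq_zero (hU : HopfRep.IsUnipotent k A) (W : Type v) [AddCommGroup W] [Module k W]
    (c : HopfRep.Comod k A W) [Module.Finite k W] (n : ℕ) (hn : Module.finrank k W ≤ n) :
    T c (xel k A ^ n) = 0 := by
  obtain ⟨F, -, -, hrank, htop, hstep⟩ := Comod.exists_flag_of_isUnipotent (c := c) hU W
  have key : ∀ n, ∀ w ∈ F n, T c (xel k A ^ n) w = 0 := by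
    intro n
    induction n with
    | zero =>
      intro w hw
      have h0 : F 0 = ⊥ := by
        have := hrank 0 (Nat.zero_le _)
        exact Submodule.finrank_eq_zero.mp this
      rw [h0, Submodule.mem_bot] at hw
      rw [hw, map_zero]
    | succ n ih =>
      intro w hw
      obtain ⟨y, hy⟩ := hstep n w hw
      have hcomp : T c (xel k A ^ n) ∘ₗ (F n).subtype = 0 := by
        apply LinearMap.ext; intro u
        exact ih u u.2
      rw [pow_succ, T_mul_apply, T_xel_apply, ← hy,
        ← LinearMap.comp_apply (LinearMap.rTensor A (T c (xel k A ^ n))),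
        ← LinearMap.rTensor_comp, hcomp, LinearMap.rTensor_zero, LinearMap.zero_apply, map_zero]
  apply LinearMap.ext; intro w
  exact key n w (by rw [htop n hn]; trivial)

/-- local nilpotency of `x` on an arbitrary comodule of a unipotent group -/
theorem exists_T_xel_pow_eq_zero (hU : HopfRep.IsUnipotent k A) (V : Type v) [AddCommGroup V]
    [Module k V] (c : HopfRep.Comod k A V) (v : V) :
    ∃ N : ℕ, ∀ n, N ≤ n → T c (xel k A ^ n) v = 0 := by
  obtain ⟨W, hfin, hv, hW⟩ := Comod.exists_finite_subcomod_mem (k := k) (A := A) v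
  refine ⟨Module.finrank k W, fun n hn => ?_⟩
  have h1 := T_natural (ComodSub.Comod.restr c W hW) c W.subtype
    (fun w => (ComodSub.restr_coact_coe c W hW w).symm) (xel k A ^ n) ⟨v, hv⟩
  rw [Submodule.subtype_apply] at h1
  rw [h1, T_xel_pow_eq_zero hU W _ n hn, LinearMap.zero_apply, map_zero]

/-- values of `g` from the regular comodule -/
lemma apply_eq_lid_T_regular (g : WithConv (A →ₗ[k] A)) (a : A) :
    g.ofConv a = TensorProduct.lid k A
      ((CoalgebraStruct.counit (R := k) (A := A)).rTensor A (T (HopfRep.Comod.regular k A) g a)) := by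
  rw [T_apply]
  show _ = TensorProduct.lid k A
      ((CoalgebraStruct.counit (R := k) (A := A)).rTensor A
        (g.ofConv.lTensor A (CoalgebraStruct.comul (R := k) a)))
  rw [← LinearMap.comp_apply (LinearMap.rTensor A _), LinearMap.rTensor_comp_lTensor,
    ← LinearMap.lTensor_comp_rTensor, LinearMap.comp_apply, Coalgebra.rTensor_counit_comul,
    LinearMap.lTensor_tmul, TensorProduct.lid_tmul, one_smul]

/-- local nilpotency of `x` on the Hopf algebra itself -/
theorem exists_xel_pow_apply_eq_zero (hU : HopfRep.IsUnipotent k A) (a : A) :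
    ∃ N : ℕ, ∀ n, N ≤ n → (xel k A ^ n).ofConv a = 0 := by
  obtain ⟨N, hN⟩ := exists_T_xel_pow_eq_zero hU A (HopfRep.Comod.regular k A) a
  refine ⟨N, fun n hn => ?_⟩
  rw [apply_eq_lid_T_regular, hN n hn, map_zero, map_zero]

end Nilp

end Groth.Agent.H9.UnipLie
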