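import Mathlib
import Groth.Agent.Lib.Helper9.UnipLie.Basic
import Groth.Prelude.Def_LieHopf

/-!
# Functionals on a unipotent Hopf algebra: local nilpotency; `p`-th powers of `ε`-derivations (helper9)
-/

set_option autoImplicit false

universe u v w w'

open TensorProduct WithConv

namespace Groth.Agent.H9.UnipLie

section FunNilp

variable {k : Type u} [Field k] {A : Type v} [CommRing A] [Bialgebra k A]

lemma conv_eq_mul (ψ φ : A →ₗ[k] k) :
    Comod.conv ψ φ = (toConv ψ * toConv φ : WithConv (A →ₗ[k] k)).ofConv := by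
  rw [Comod.conv, LinearMap.convMul_def, ofConv_toConv, ofConv_toConv, ofConv_toConv]
  congr 1

/-- the action of a product of functionals -/
lemma slice_mul_coact {V : Type w} [AddCommGroup V] [Module k V] [HopfRep.Comod k A V]
    (ψ φ : WithConv (A →ₗ[k] k)) (v : V) :
    Comod.slice (ψ * φ).ofConv (Comod.coact (A := A) v) =
      Comod.slice ψ.ofConv (Comod.coact (A := A) (Comod.slice φ.ofConv (Comod.coact (A := A) v))) := by
  rw [Comod.slice_coact_slice_coact, conv_eq_mul]

/-- on a finite-dimensional comodule of a unipotent group a functional killing `1` acts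
nilpotently -/
theorem slice_pow_eq_zero (hU : HopfRep.IsUnipotent k A) (δ : WithConv (A →ₗ[k] k))
    (hδ : δ.ofConv 1 = 0) (W : Type v) [AddCommGroup W] [Module k W]
    [c : HopfRep.Comod k A W] [Module.Finite k W] (n : ℕ) (hn : Module.finrank k W ≤ n) (w : W) :
    Comod.slice (δ ^ n).ofConv (c.coact w) = 0 := by
  obtain ⟨F, -, -, hrank, htop, hstep⟩ := Comod.exists_flag_of_isUnipotent (c := c) hU W
  have key : ∀ n, ∀ w ∈ F n, Comod.slice (δ ^ n).ofConv (c.coact w) = 0 := by
    intro n
    induction n with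
    | zero =>
      intro w hw
      have h0 : F 0 = ⊥ := Submodule.finrank_eq_zero.mp (hrank 0 (Nat.zero_le _))
      rw [h0, Submodule.mem_bot] at hw
      rw [hw, map_zero, map_zero]
    | succ n ih =>
      intro w hw
      rw [pow_succ]
      have := slice_mul_coact (δ ^ n) δ w
      rw [show Comod.coact (A := A) w = c.coact w from rfl] at this
      rw [this]
      apply ih
      have h1 : Comod.slice δ.ofConv (c.coact w) =
          Comod.slice δ.ofConv (c.coact w - w ⊗ₜ[k] (1 : A)) := by
        rw [map_sub, Comod.slice_tmul, hδ, zero_smul, sub_zero]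
      rw [show Comod.coact (A := A) w = c.coact w from rfl, h1]
      exact Comod.slice_mem_of_mem_range _ (hstep n w hw) _
  exact key n w (by rw [htop n hn]; trivial)

/-- local nilpotency of a functional killing `1` -/
theorem exists_pow_apply_eq_zero (hU : HopfRep.IsUnipotent k A) (δ : WithConv (A →ₗ[k] k))
    (hδ : δ.ofConv 1 = 0) (a : A) : ∃ N : ℕ, ∀ n, N ≤ n → (δ ^ n).ofConv a = 0 := by
  let cA : HopfRep.Comod k A A := HopfRep.Comod.regular k A
  obtain ⟨W, hfin, hv, hW⟩ := Comod.exists_finite_subcomod_mem (k := k) (A := A) (V := A) a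
  refine ⟨Module.finrank k W, fun n hn => ?_⟩
  let cW : HopfRep.Comod k A W := ComodSub.Comod.restr cA W hW
  have h1 := slice_pow_eq_zero hU δ hδ W n hn ⟨a, hv⟩
  have h2 : Comod.slice (δ ^ n).ofConv (cA.coact a) = 0 := by
    have h3 := ComodSub.restr_coact_coe cA W hW ⟨a, hv⟩
    rw [show ((⟨a, hv⟩ : W) : A) = a from rfl] at h3
    rw [← h3, Comod.slice_rTensor, h1, map_zero]
  have h4 : ∀ (ψ : A →ₗ[k] k) (t : A ⊗[k] A),
      CoalgebraStruct.counit (R := k) (Comod.slice ψ t) =
        ψ (TensorProduct.lid k A ((CoalgebraStruct.counit (R := k) (A := A)).rTensor A t)) := by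
    intro ψ t
    induction t using TensorProduct.induction_on with
    | zero => simp
    | tmul b c => simp [mul_comm]
    | add x y hx hy => simp only [map_add, hx, hy]
  have h5 := h4 (δ ^ n).ofConv (CoalgebraStruct.comul (R := k) a)
  rw [Coalgebra.rTensor_counit_comul, TensorProduct.lid_tmul, one_smul] at h5
  rw [← h5]
  have : cA.coact a = CoalgebraStruct.comul (R := k) a := rfl
  rw [← this, h2, map_zero]

end FunNilp

section PPow

variable {k : Type u} [Field k] {A : Type v} [CommRing A] [Bialgebra k A]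

/-- `f ⊠ g : a ⊗ b ↦ f a * g b` -/
noncomputable def boxt (f g : WithConv (A →ₗ[k] k)) : WithConv (A ⊗[k] A →ₗ[k] k) :=
  toConv (LinearMap.mul' k k ∘ₗ TensorProduct.map f.ofConv g.ofConv)

lemma boxt_apply (f g : WithConv (A →ₗ[k] k)) (a b : A) :
    (boxt f g).ofConv (a ⊗ₜ[k] b) = f.ofConv a * g.ofConv b := by
  simp [boxt]

lemma boxt_mul (f g f' g' : WithConv (A →ₗ[k] k)) :
    boxt f g * boxt f' g' = boxt (f * f') (g * g') := by
  have h1 := TensorProduct.map_convMul_map (R := k) (f := f) (h := f') (g := g) (k := g')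
  have h2 := LinearMap.algHom_comp_convMul_distrib (R := k) (Algebra.TensorProduct.lmul' k (S := k))
    (toConv (TensorProduct.map f.ofConv g.ofConv)) (toConv (TensorProduct.map f'.ofConv g'.ofConv))
  rw [h1] at h2
  apply WithConv.ofConv_injective
  rw [boxt, boxt, boxt]
  rw [ofConv_toConv] at h2 ⊢
  exact h2.symm

lemma boxt_one : boxt (1 : WithConv (A →ₗ[k] k)) 1 = 1 := by
  apply WithConv.ofConv_injective
  apply TensorProduct.ext'
  intro a b
  rw [boxt_apply]
  simp [mul_comm]

lemma boxt_add_left (f f' g : WithConv (A →ₗ[k] k)) : boxt (f + f') g = boxt f g + boxt f' g := by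
  apply WithConv.ofConv_injective
  apply TensorProduct.ext'
  intro a b
  rw [ofConv_add, LinearMap.add_apply, boxt_apply, boxt_apply, boxt_apply, ofConv_add,
    LinearMap.add_apply, add_mul]

lemma boxt_pow_left (f : WithConv (A →ₗ[k] k)) (n : ℕ) : boxt f 1 ^ n = boxt (f ^ n) 1 := by
  induction n with
  | zero => rw [pow_zero, pow_zero, boxt_one]
  | succ n ih => rw [pow_succ, ih, boxt_mul, one_mul, pow_succ]

lemma boxt_pow_right (f : WithConv (A →ₗ[k] k)) (n : ℕ) : boxt 1 f ^ n = boxt 1 (f ^ n) := by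
  induction n with
  | zero => rw [pow_zero, pow_zero, boxt_one]
  | succ n ih => rw [pow_succ, ih, boxt_mul, one_mul, pow_succ]

lemma boxt_commute (f g : WithConv (A →ₗ[k] k)) : Commute (boxt f 1) (boxt 1 g) := by
  show _ * _ = _ * _
  rw [boxt_mul, boxt_mul, one_mul, mul_one, one_mul, mul_one]

/-- precomposition with the multiplication -/
noncomputable def preMul (f : WithConv (A →ₗ[k] k)) : WithConv (A ⊗[k] A →ₗ[k] k) :=
  toConv (f.ofConv ∘ₗ LinearMap.mul' k A)

lemma preMul_apply (f : WithConv (A →ₗ[k] k)) (a b : A) :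
    (preMul f).ofConv (a ⊗ₜ[k] b) = f.ofConv (a * b) := by
  simp [preMul]

lemma preMul_mul (f g : WithConv (A →ₗ[k] k)) : preMul (f * g) = preMul f * preMul g := by
  apply WithConv.ofConv_injective
  exact LinearMap.convMul_comp_coalgHom_distrib f g (Bialgebra.mulCoalgHom k A)

lemma preMul_one : preMul (1 : WithConv (A →ₗ[k] k)) = 1 := by
  apply WithConv.ofConv_injective
  apply TensorProduct.ext'
  intro a b
  rw [preMul_apply]
  simp [mul_comm]

lemma preMul_pow (f : WithConv (A →ₗ[k] k)) (n : ℕ) : preMul (f ^ n) = preMul f ^ n := by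
  induction n with
  | zero => rw [pow_zero, pow_zero, preMul_one]
  | succ n ih => rw [pow_succ, preMul_mul, ih, pow_succ]

lemma charP_conv (p : ℕ) [CharP k p] : CharP (WithConv (A ⊗[k] A →ₗ[k] k)) p := by
  apply charP_of_injective_algebraMap (R := k)
  intro s t hst
  have := congrArg (fun f : WithConv (A ⊗[k] A →ₗ[k] k) => f.ofConv ((1 : A) ⊗ₜ[k] (1 : A))) hst
  simpa using this

/-- in characteristic `p`, the `p ^ n`-th convolution power of an `ε`-derivation is an
`ε`-derivation -/
theorem pow_char_pow_leibniz (p : ℕ) [Fact p.Prime] [CharP k p] (δ : WithConv (A →ₗ[k] k))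
    (hδ : ∀ a b : A, δ.ofConv (a * b) = δ.ofConv a * CoalgebraStruct.counit (R := k) b +
      CoalgebraStruct.counit (R := k) a * δ.ofConv b) (n : ℕ) (a b : A) :
    (δ ^ p ^ n).ofConv (a * b) = (δ ^ p ^ n).ofConv a * CoalgebraStruct.counit (R := k) b +
      CoalgebraStruct.counit (R := k) a * (δ ^ p ^ n).ofConv b := by
  have h1 : preMul δ = boxt δ 1 + boxt 1 δ := by
    apply WithConv.ofConv_injective
    apply TensorProduct.ext'
    intro a b
    rw [preMul_apply, ofConv_add, LinearMap.add_apply, boxt_apply, boxt_apply, hδ]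
    rfl
  have := charP_conv (k := k) (A := A) p
  have h2 : preMul (δ ^ p ^ n) = boxt (δ ^ p ^ n) 1 + boxt 1 (δ ^ p ^ n) := by
    rw [preMul_pow, h1, add_pow_char_pow_of_commute p n (boxt_commute δ δ), boxt_pow_left,
      boxt_pow_right]
  have h3 := congrArg (fun f : WithConv (A ⊗[k] A →ₗ[k] k) => f.ofConv (a ⊗ₜ[k] b)) h2
  simp only [preMul_apply, ofConv_add, LinearMap.add_apply, boxt_apply] at h3
  rw [h3]
  rfl

end PPow

section Final

variable {k : Type u} [Field k] {A : Type u} [CommRing A] [HopfAlgebra k A]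

lemma eq_zero_of_leibniz_of_adjoin (ψ : A →ₗ[k] k)
    (hψ : ∀ a b : A, ψ (a * b) = ψ a * CoalgebraStruct.counit (R := k) b +
      CoalgebraStruct.counit (R := k) a * ψ b) (S : Set A) (hS : Algebra.adjoin k S = ⊤)
    (h : ∀ s ∈ S, ψ s = 0) : ψ = 0 := by
  have h1 : ψ 1 = 0 := by
    have := hψ 1 1
    rw [mul_one, Bialgebra.counit_one, mul_one, one_mul] at this
    exact left_eq_add.mp this
  apply LinearMap.ext
  intro a
  have ha : a ∈ Algebra.adjoin k S := by rw [hS]; trivial
  rw [LinearMap.zero_apply]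
  induction ha using Algebra.adjoin_induction with
  | mem x hx => exact h x hx
  | algebraMap r => rw [Algebra.algebraMap_eq_smul_one, map_smul, h1, smul_zero]
  | add x y _ _ hx hy => rw [map_add, hx, hy, add_zero]
  | mul x y _ _ hx hy => rw [hψ, hx, hy, zero_mul, mul_zero, add_zero]

lemma convPow_eq (Dl : A →ₗ[k] k) (n : ℕ) :
    LieHopf.convPow Dl n = ((toConv Dl : WithConv (A →ₗ[k] k)) ^ n).ofConv := by
  induction n with
  | zero =>
    rw [pow_zero]
    apply LinearMap.ext
    intro a
    rfl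
  | succ n ih =>
    rw [pow_succ, LieHopf.convPow, ih]
    rfl

/-- in characteristic `p`, the Lie algebra of a unipotent group is `p`-nilpotent -/
theorem convPow_char_pow_eq_zero (p : ℕ) [Fact p.Prime] [CharP k p] [Algebra.FiniteType k A]
    (hU : HopfRep.IsUnipotent k A) (D : LieHopf.Lie k A) :
    ∃ n : ℕ, 0 < n ∧
      LieHopf.convPow (D.toLinearMap.restrictScalars k ∘ₗ LinearMap.id) (p ^ n) = 0 := by
  classical
  set Dl : A →ₗ[k] k := D.toLinearMap.restrictScalars k ∘ₗ LinearMap.id with hDl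
  set δ : WithConv (A →ₗ[k] k) := toConv Dl with hδdef
  have hδ1 : δ.ofConv 1 = 0 := LieHopf.dlin_one D
  have hδ : ∀ a b : A, δ.ofConv (a * b) = δ.ofConv a * CoalgebraStruct.counit (R := k) b +
      CoalgebraStruct.counit (R := k) a * δ.ofConv b := by
    intro a b
    have := LieHopf.dlin_mul D a b
    show LieHopf.dlin D (a * b) = LieHopf.dlin D a * _ + _ * LieHopf.dlin D b
    rw [this, add_comm, mul_comm]
    rfl
  obtain ⟨S, hS⟩ := (Algebra.FiniteType.out : (⊤ : Subalgebra k A).FG)
  have hN : ∀ s : A, ∃ N : ℕ, ∀ n, N ≤ n → (δ ^ n).ofConv s = 0 :=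
    fun s => exists_pow_apply_eq_zero hU δ hδ1 s
  choose Nf hNf using hN
  set N : ℕ := S.sup Nf with hNdef
  refine ⟨N + 1, Nat.succ_pos _, ?_⟩
  rw [convPow_eq]
  apply eq_zero_of_leibniz_of_adjoin _ (pow_char_pow_leibniz p δ hδ (N + 1)) (S : Set A) hS
  intro s hs
  apply hNf s
  have h1 : Nf s ≤ N := Finset.le_sup (f := Nf) hs
  have h2 : N + 1 < p ^ (N + 1) := Nat.lt_pow_self (Nat.Prime.one_lt Fact.out)
  omega

end Final

end Groth.Agent.H9.UnipLie
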