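import Mathlib
import Groth.Agent.Lib.Helper9.UnipLie.Basic

/-!
# Power series in a locally nilpotent element of the convolution algebra (helper9)

For `x : WithConv (A →ₗ[k] A)` with `x ^ n a = 0` for `n` large (depending on `a`), we define
the algebra map `ev : k⟦X⟧ → WithConv (A →ₗ[k] A)`, `p ↦ ∑ pₙ xⁿ` (pointwise finite).
-/

set_option autoImplicit false

universe u v w w'

open TensorProduct WithConv PowerSeries

namespace Groth.Agent.H9.UnipLie

section Calc

variable {k : Type u} [Field k] {A : Type v} [CommRing A] [Bialgebra k A]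

variable (x : WithConv (A →ₗ[k] A))

/-- `x ^ n a = 0` for `n ≥ N` -/
def IsLN (a : A) (N : ℕ) : Prop := ∀ n, N ≤ n → (x ^ n).ofConv a = 0

variable {x}

lemma IsLN.mono {a : A} {N M : ℕ} (h : IsLN x a N) (hNM : N ≤ M) : IsLN x a M :=
  fun n hn => h n (le_trans hNM hn)

lemma sum_range_eq_of_isLN {a : A} {N M : ℕ} (h1 : IsLN x a N) (h2 : IsLN x a M) (c : ℕ → k) :
    ∑ n ∈ Finset.range N, c n • (x ^ n).ofConv a = ∑ n ∈ Finset.range M, c n • (x ^ n).ofConv a := by
  have key : ∀ {N M : ℕ}, IsLN x a N → N ≤ M →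
      ∑ n ∈ Finset.range N, c n • (x ^ n).ofConv a =
        ∑ n ∈ Finset.range M, c n • (x ^ n).ofConv a := by
    intro N M h hNM
    apply Finset.sum_subset (Finset.range_subset_range.mpr hNM)
    intro n _ hn'
    rw [h n (by simpa using hn'), smul_zero]
  rcases le_total N M with hle | hle
  · exact key h1 hle
  · exact (key h2 hle).symm

lemma aeval_apply {a : A} {N : ℕ} (h : IsLN x a N) (P : Polynomial k) :
    (Polynomial.aeval x P).ofConv a = ∑ n ∈ Finset.range N, P.coeff n • (x ^ n).ofConv a := by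
  have h1 := Polynomial.aeval_eq_sum_range' (p := P) (n := max N (P.natDegree + 1))
    (by omega) x
  rw [h1, ofConv_sum, LinearMap.sum_apply]
  simp only [ofConv_smul, LinearMap.smul_apply]
  symm
  apply Finset.sum_subset (Finset.range_subset_range.mpr (le_max_left _ _))
  intro n _ hn'
  rw [h n (by simpa using hn'), smul_zero]

variable (hx : ∀ a : A, ∃ N, IsLN x a N)

/-- a chosen nilpotency bound -/
noncomputable def bnd (a : A) : ℕ := Classical.choose (hx a)

lemma bnd_spec (a : A) : IsLN x a (bnd hx a) := Classical.choose_spec (hx a)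

/-- the underlying function of `ev p` -/
noncomputable def evFun (p : k⟦X⟧) (a : A) : A :=
  ∑ n ∈ Finset.range (bnd hx a), coeff n p • (x ^ n).ofConv a

lemma evFun_eq (p : k⟦X⟧) {a : A} {N : ℕ} (h : IsLN x a N) :
    evFun hx p a = ∑ n ∈ Finset.range N, coeff n p • (x ^ n).ofConv a :=
  sum_range_eq_of_isLN (bnd_spec hx a) h _

/-- `ev p = ∑ pₙ xⁿ` -/
noncomputable def ev (p : k⟦X⟧) : WithConv (A →ₗ[k] A) :=
  toConv
    { toFun := evFun hx p
      map_add' := by
        intro a b
        have hN1 : IsLN x a (max (bnd hx a) (max (bnd hx b) (bnd hx (a + b)))) :=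
          (bnd_spec hx a).mono (le_max_left _ _)
        have hN2 : IsLN x b (max (bnd hx a) (max (bnd hx b) (bnd hx (a + b)))) :=
          (bnd_spec hx b).mono (le_trans (le_max_left _ _) (le_max_right _ _))
        have hN3 : IsLN x (a + b) (max (bnd hx a) (max (bnd hx b) (bnd hx (a + b)))) :=
          (bnd_spec hx (a + b)).mono (le_trans (le_max_right _ _) (le_max_right _ _))
        rw [evFun_eq hx p hN1, evFun_eq hx p hN2, evFun_eq hx p hN3, ← Finset.sum_add_distrib]
        refine Finset.sum_congr rfl fun n _ => ?_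
        rw [map_add, smul_add]
      map_smul' := by
        intro r a
        have hN1 : IsLN x a (max (bnd hx a) (bnd hx (r • a))) :=
          (bnd_spec hx a).mono (le_max_left _ _)
        have hN2 : IsLN x (r • a) (max (bnd hx a) (bnd hx (r • a))) :=
          (bnd_spec hx (r • a)).mono (le_max_right _ _)
        rw [evFun_eq hx p hN1, evFun_eq hx p hN2, RingHom.id_apply, Finset.smul_sum]
        refine Finset.sum_congr rfl fun n _ => ?_
        rw [map_smul, smul_comm] }

lemma ev_apply (p : k⟦X⟧) {a : A} {N : ℕ} (h : IsLN x a N) :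
    (ev hx p).ofConv a = ∑ n ∈ Finset.range N, coeff n p • (x ^ n).ofConv a :=
  evFun_eq hx p h

lemma ev_apply_trunc (p : k⟦X⟧) {a : A} {N : ℕ} (h : IsLN x a N) :
    (ev hx p).ofConv a = (Polynomial.aeval x (trunc N p)).ofConv a := by
  rw [ev_apply hx p h, aeval_apply h]
  refine Finset.sum_congr rfl fun n hn => ?_
  rw [coeff_trunc, if_pos (Finset.mem_range.mp hn)]

lemma ev_coe (P : Polynomial k) : ev hx (P : k⟦X⟧) = Polynomial.aeval x P := by
  apply WithConv.ofConv_injective
  apply LinearMap.ext; intro a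
  rw [ev_apply hx _ (bnd_spec hx a), aeval_apply (bnd_spec hx a)]
  simp only [Polynomial.coeff_coe]

lemma ev_congr_trunc {p q : k⟦X⟧} {a : A} {N : ℕ} (h : IsLN x a N) (hpq : trunc N p = trunc N q) :
    (ev hx p).ofConv a = (ev hx q).ofConv a := by
  rw [ev_apply_trunc hx p h, ev_apply_trunc hx q h, hpq]

lemma ev_add (p q : k⟦X⟧) : ev hx (p + q) = ev hx p + ev hx q := by
  apply WithConv.ofConv_injective
  apply LinearMap.ext; intro a
  rw [ofConv_add, LinearMap.add_apply, ev_apply hx _ (bnd_spec hx a), ev_apply hx _ (bnd_spec hx a),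
    ev_apply hx _ (bnd_spec hx a), ← Finset.sum_add_distrib]
  refine Finset.sum_congr rfl fun n _ => ?_
  rw [map_add, add_smul]

lemma ev_smul (r : k) (p : k⟦X⟧) : ev hx (r • p) = r • ev hx p := by
  apply WithConv.ofConv_injective
  apply LinearMap.ext; intro a
  rw [ofConv_smul, LinearMap.smul_apply, ev_apply hx _ (bnd_spec hx a),
    ev_apply hx _ (bnd_spec hx a), Finset.smul_sum]
  refine Finset.sum_congr rfl fun n _ => ?_
  rw [coeff_smul, smul_eq_mul, mul_smul]

lemma ev_one : ev hx (1 : k⟦X⟧) = 1 := by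
  rw [← Polynomial.coe_one, ev_coe, map_one]

lemma ev_X : ev hx (X : k⟦X⟧) = x := by
  rw [← Polynomial.coe_X, ev_coe, Polynomial.aeval_X]

lemma ev_mul (p q : k⟦X⟧) : ev hx (p * q) = ev hx p * ev hx q := by
  apply WithConv.ofConv_injective
  apply LinearMap.ext; intro a
  classical
  set 𝓡 := Coalgebra.Repr.arbitrary k a with h𝓡
  set N : ℕ := max (bnd hx a)
    (𝓡.index.sup fun l => max (bnd hx (𝓡.left l)) (bnd hx (𝓡.right l))) with hN
  have hNa : IsLN x a N := (bnd_spec hx a).mono (le_max_left _ _)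
  have hNl : ∀ l ∈ 𝓡.index, IsLN x (𝓡.left l) N := fun l hl =>
    (bnd_spec hx (𝓡.left l)).mono (le_trans (le_max_left _ _)
      (le_trans (Finset.le_sup (f := fun l => max (bnd hx (𝓡.left l)) (bnd hx (𝓡.right l))) hl)
        (le_max_right _ _)))
  have hNr : ∀ l ∈ 𝓡.index, IsLN x (𝓡.right l) N := fun l hl =>
    (bnd_spec hx (𝓡.right l)).mono (le_trans (le_max_right _ _)
      (le_trans (Finset.le_sup (f := fun l => max (bnd hx (𝓡.left l)) (bnd hx (𝓡.right l))) hl)
        (le_max_right _ _)))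
  have h1 : (ev hx p * ev hx q).ofConv a =
      (Polynomial.aeval x (trunc N p) * Polynomial.aeval x (trunc N q)).ofConv a := by
    show (ev hx p * ev hx q) a = (Polynomial.aeval x (trunc N p) * Polynomial.aeval x (trunc N q)) a
    rw [𝓡.convMul_apply, 𝓡.convMul_apply]
    refine Finset.sum_congr rfl fun l hl => ?_
    show (ev hx p).ofConv _ * (ev hx q).ofConv _ = _
    rw [ev_apply_trunc hx p (hNl l hl), ev_apply_trunc hx q (hNr l hl)]
  rw [h1, ← map_mul, ev_apply_trunc hx _ hNa, ← trunc_trunc_mul_trunc, ← Polynomial.coe_mul,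
    aeval_apply hNa, aeval_apply hNa]
  refine Finset.sum_congr rfl fun n hn => ?_
  rw [coeff_trunc, if_pos (Finset.mem_range.mp hn), Polynomial.coeff_coe]

lemma ev_zero : ev hx (0 : k⟦X⟧) = 0 := by
  have := ev_smul hx (0 : k) (0 : k⟦X⟧)
  rwa [zero_smul, zero_smul] at this

/-- `ev` as an algebra map -/
noncomputable def evAlg : k⟦X⟧ →ₐ[k] WithConv (A →ₗ[k] A) :=
  AlgHom.ofLinearMap
    { toFun := ev hx
      map_add' := ev_add hx
      map_smul' := ev_smul hx } (ev_one hx) (ev_mul hx)

@[simp] lemma evAlg_apply (p : k⟦X⟧) : evAlg hx p = ev hx p := rfl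

lemma ev_pow (p : k⟦X⟧) (n : ℕ) : ev hx (p ^ n) = ev hx p ^ n := by
  rw [← evAlg_apply, map_pow, evAlg_apply]

lemma ev_sum {ι : Type*} (s : Finset ι) (f : ι → k⟦X⟧) :
    ev hx (∑ i ∈ s, f i) = ∑ i ∈ s, ev hx (f i) := by
  rw [← evAlg_apply, map_sum]
  rfl

end Calc

section TCalc

variable {k : Type u} [Field k] {A : Type v} [CommRing A] [Bialgebra k A]
  {V : Type w} [AddCommGroup V] [Module k V]
  {x : WithConv (A →ₗ[k] A)} (hx : ∀ a : A, ∃ N, IsLN x a N)

lemma lTensor_ev_eventually (t : V ⊗[k] A) :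
    ∃ N : ℕ, ∀ M, N ≤ M → ∀ p : k⟦X⟧, (ev hx p).ofConv.lTensor V t =
      (Polynomial.aeval x (trunc M p)).ofConv.lTensor V t := by
  induction t using TensorProduct.induction_on with
  | zero => exact ⟨0, fun M _ p => by simp⟩
  | tmul v a =>
    refine ⟨bnd hx a, fun M hM p => ?_⟩
    rw [LinearMap.lTensor_tmul, LinearMap.lTensor_tmul,
      ev_apply_trunc hx p ((bnd_spec hx a).mono hM)]
  | add s t hs ht =>
    obtain ⟨N1, h1⟩ := hs
    obtain ⟨N2, h2⟩ := ht
    refine ⟨max N1 N2, fun M hM p => ?_⟩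
    rw [map_add, map_add, h1 M (le_trans (le_max_left _ _) hM) p,
      h2 M (le_trans (le_max_right _ _) hM) p]

/-- `T (ev p) v` is a finite sum once `T (x ^ n) v = 0` for `n ≥ N` -/
theorem T_ev (c : HopfRep.Comod k A V) (v : V) (N : ℕ) (hN : ∀ n, N ≤ n → T c (x ^ n) v = 0)
    (p : k⟦X⟧) : T c (ev hx p) v = ∑ n ∈ Finset.range N, coeff n p • T c (x ^ n) v := by
  obtain ⟨N', hN'⟩ := lTensor_ev_eventually (V := V) hx (c.coact v)
  have h1 : T c (ev hx p) v = T c (Polynomial.aeval x (trunc (max N N' + 1) p)) v := by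
    rw [T_apply, T_apply]
    exact hN' _ (le_trans (le_max_right _ _) (Nat.le_succ _)) p
  rw [h1, Polynomial.aeval_eq_sum_range' (natDegree_trunc_lt p (max N N')), T_sum,
    LinearMap.sum_apply]
  simp only [T_smul, LinearMap.smul_apply]
  symm
  apply Finset.sum_subset_zero_on_sdiff
    (Finset.range_subset_range.mpr (le_trans (le_max_left _ _) (Nat.le_succ _)))
  · intro n hn
    rw [Finset.mem_sdiff, Finset.mem_range, Finset.mem_range, not_lt] at hn
    rw [hN n hn.2, smul_zero]
  · intro n hn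
    rw [coeff_trunc, if_pos (lt_of_lt_of_le (Finset.mem_range.mp hn)
      (le_trans (le_max_left _ _) (Nat.le_succ _)))]

end TCalc

end Groth.Agent.H9.UnipLie
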