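import Mathlib

/-!
# Formal identities: `exp (log (1 + X)) = 1 + X` (helper9)
-/

set_option autoImplicit false

universe u

open PowerSeries

namespace Groth.Agent.H9.UnipLie

section Series

variable {k : Type u} [Field k] [CharZero k]

lemma one_add_X_mul_deriv_log : (1 + X : k⟦X⟧) * d⁄dX k (log k) = 1 := by
  rw [deriv_log, add_mul, one_mul]
  ext n
  cases n with
  | zero => simp
  | succ n =>
    rw [map_add, coeff_mk, coeff_succ_X_mul, coeff_mk, ← map_add, pow_succ]
    simp

lemma eq_zero_of_ode {H : k⟦X⟧} (h : (1 + X : k⟦X⟧) * d⁄dX k H = H) (h0 : constantCoeff H = 0) :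
    H = 0 := by
  ext n
  rw [map_zero]
  induction n with
  | zero => rw [coeff_zero_eq_constantCoeff]; exact h0
  | succ n ih =>
    have h1 := congrArg (coeff n) h
    rw [add_mul, one_mul, map_add, coeff_derivative, ih] at h1
    have h2 : coeff n (X * d⁄dX k H) = 0 := by
      cases n with
      | zero => simp
      | succ m => rw [coeff_succ_X_mul, coeff_derivative, ih, zero_mul]
    rw [h2, add_zero] at h1
    have h3 : ((n : k) + 1) ≠ 0 := by exact_mod_cast Nat.succ_ne_zero n
    exact (mul_eq_zero.mp h1).resolve_right h3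

/-- `exp (log (1 + X)) = 1 + X` -/
theorem exp_subst_log : (exp k).subst (log k) = (1 + X : k⟦X⟧) := by
  have hL : HasSubst (log k) := HasSubst.log
  set F := (exp k).subst (log k) with hF
  have hF' : d⁄dX k F = F * d⁄dX k (log k) := by
    rw [hF, derivative_subst hL, derivative_exp]
  have hF0 : constantCoeff F = 1 := by
    have h11 : (1 : k⟦X⟧).subst (log k) = (1 : k⟦X⟧) := by
      rw [← coe_substAlgHom hL, map_one]
    have h1 : F = ((exp k) - 1).subst (log k) + 1 := by
      rw [subst_sub hL, h11, sub_add_cancel]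
    rw [h1, map_add, map_one]
    have h12 : constantCoeff (exp k - 1) = 0 := by
      rw [map_sub, constantCoeff_exp, map_one, sub_self]
    have := constantCoeff_subst_eq_zero (a := log k) (S := k) constantCoeff_log ((exp k) - 1) h12
    rw [show constantCoeff (subst (log k) (exp k - 1)) =
      MvPowerSeries.constantCoeff (subst (log k) (exp k - 1)) from rfl, this, zero_add]
  have hsub : F - (1 + X) = 0 := by
    apply eq_zero_of_ode
    · rw [map_sub, map_add, hF', derivative_X]
      have : d⁄dX k (1 : k⟦X⟧) = 0 := by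
        rw [← map_one (C (R := k)), derivative_C]
      rw [this, zero_add, mul_sub, mul_one, mul_left_comm, one_add_X_mul_deriv_log, mul_one]
    · rw [map_sub, hF0, map_add, map_one, constantCoeff_X, add_zero, sub_self]
  exact sub_eq_zero.mp hsub

/-- `(1 + X) ^ N = exp (N log (1 + X))` -/
theorem one_add_X_pow (N : ℕ) :
    (1 + X : k⟦X⟧) ^ N = (rescale (N : k) (exp k)).subst (log k) := by
  rw [← exp_subst_log, ← subst_pow HasSubst.log, exp_pow_eq_rescale_exp]

omit [CharZero k] in
/-- low coefficients of a substitution -/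
theorem coeff_subst_of_lt (f g : k⟦X⟧) (hg : constantCoeff g = 0) {n M : ℕ} (hn : n < M) :
    coeff n (f.subst g) = coeff n (∑ j ∈ Finset.range M, coeff j f • g ^ j) := by
  have hG : HasSubst g := HasSubst.of_constantCoeff_zero' hg
  obtain ⟨g₁, rfl⟩ := X_dvd_iff.mpr hg
  have hz : ∀ d, n < d → coeff n ((X * g₁) ^ d) = 0 := by
    intro d hd
    rw [mul_pow, coeff_X_pow_mul', if_neg (by omega)]
  rw [coeff_subst' hG, map_sum, finsum_eq_sum_of_support_subset (s := Finset.range M)]
  · refine Finset.sum_congr rfl fun j _ => ?_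
    rw [coeff_smul]
  · intro d hd
    rw [Function.mem_support] at hd
    rw [Finset.coe_range, Set.mem_Iio]
    by_contra hlt
    exact hd (by rw [hz d (by omega), smul_zero])

end Series

end Groth.Agent.H9.UnipLie
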