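import Mathlib
import Groth.Agent.Lib.Helper9.UnipLie.Calc
import Groth.Agent.Lib.Helper9.UnipLie.Series

/-!
# The logarithm of the generic point of a unipotent group in characteristic zero (helper9)

`elog = log (id) = ∑ (-1)^(n+1)/n (id - 1)^n` in the convolution algebra is an `A`-valued
`ε`-derivation, and the coaction of any comodule is `exp (elog)` (pointwise finite).
-/

set_option autoImplicit false

universe u v w w'

open TensorProduct WithConv PowerSeries

namespace Groth.Agent.H9.UnipLie

section PolyId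

/-- a polynomial over a `k`-algebra (`char k = 0`) vanishing at all natural numbers is zero -/
lemma poly_eq_zero_of_eval_natCast (k : Type u) [Field k] [CharZero k] {A : Type v} [CommRing A]
    [Algebra k A] (Q : Polynomial A) (h : ∀ N : ℕ, Q.eval (N : A) = 0) :
    Q = 0 := by
  ext j
  rw [Polynomial.coeff_zero, ← Module.forall_dual_apply_eq_zero_iff k]
  intro φ
  set q : Polynomial k :=
    ∑ i ∈ Finset.range (Q.natDegree + 1), Polynomial.monomial i (φ (Q.coeff i)) with hq
  have hroot : ∀ N : ℕ, q.eval (N : k) = 0 := by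
    intro N
    have h1 := h N
    rw [Polynomial.eval_eq_sum_range] at h1
    have h2 := congrArg φ h1
    rw [map_zero, map_sum] at h2
    rw [hq, Polynomial.eval_finsetSum, ← h2]
    refine Finset.sum_congr rfl fun i _ => ?_
    rw [Polynomial.eval_monomial]
    have : Q.coeff i * (N : A) ^ i = ((N : k) ^ i) • Q.coeff i := by
      rw [Algebra.smul_def, map_pow, map_natCast, mul_comm]
    rw [this, map_smul, smul_eq_mul, mul_comm]
  have hq0 : q = 0 := by
    apply Polynomial.eq_zero_of_infinite_isRoot
    apply Set.Infinite.mono (s := Set.range (Nat.cast : ℕ → k))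
    · rintro _ ⟨N, rfl⟩
      exact hroot N
    · exact Set.infinite_range_of_injective Nat.cast_injective
  by_cases hj : j ≤ Q.natDegree
  · have := congrArg (fun p => Polynomial.coeff p j) hq0
    simp only [hq, Polynomial.finsetSum_coeff, Polynomial.coeff_monomial,
      Polynomial.coeff_zero] at this
    rw [Finset.sum_ite_eq'] at this
    rwa [if_pos (Finset.mem_range.mpr (by omega))] at this
  · rw [Polynomial.coeff_eq_zero_of_natDegree_lt (by omega), map_zero]

end PolyId

section Main

variable {k : Type u} [Field k] [CharZero k] {A : Type v} [CommRing A] [Bialgebra k A]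
variable (hU : HopfRep.IsUnipotent k A)

include hU in
omit [CharZero k] in
lemma xel_isLN : ∀ a : A, ∃ N, IsLN (xel k A) a N := exists_xel_pow_apply_eq_zero hU

/-- the logarithm of the identity in the convolution algebra -/
noncomputable def elog : WithConv (A →ₗ[k] A) := ev (xel_isLN hU) (log k)

omit [CharZero k] in
lemma one_add_xel : (1 : WithConv (A →ₗ[k] A)) + xel k A = toConv LinearMap.id := by
  rw [xel]; abel

omit [CharZero k] in
lemma ev_one_add_X : ev (xel_isLN hU) (1 + X) = toConv LinearMap.id := by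
  rw [ev_add, ev_one, ev_X, one_add_xel]

/-- truncated exponential of `elog` -/
noncomputable def expTrunc (N : ℕ) : WithConv (A →ₗ[k] A) :=
  ∑ j ∈ Finset.range N, coeff j (exp k) • elog hU ^ j

lemma ev_sum_smul_log_pow (N : ℕ) (c : ℕ → k) :
    ev (xel_isLN hU) (∑ j ∈ Finset.range N, c j • (log k) ^ j) =
      ∑ j ∈ Finset.range N, c j • elog hU ^ j := by
  rw [ev_sum]
  refine Finset.sum_congr rfl fun j _ => ?_
  rw [ev_smul, ev_pow]
  rfl

/-- the coaction is the exponential of `elog` -/
theorem coact_eq_T_expTrunc (V : Type v) [AddCommGroup V] [Module k V] (c : HopfRep.Comod k A V)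
    (v : V) : ∃ N₀ : ℕ, ∀ N, N₀ ≤ N → c.coact v = T c (expTrunc hU N) v := by
  obtain ⟨N₀, hN₀⟩ := exists_T_xel_pow_eq_zero hU V c v
  refine ⟨N₀, fun N hN => ?_⟩
  have hN' : ∀ n, N ≤ n → T c (xel k A ^ n) v = 0 := fun n hn => hN₀ n (le_trans hN hn)
  rw [expTrunc, ← ev_sum_smul_log_pow hU, T_ev _ c v N hN']
  have h1 : c.coact v = T c (ev (xel_isLN hU) ((exp k).subst (log k))) v := by
    rw [exp_subst_log, ev_one_add_X hU, T_id]
  rw [h1, T_ev _ c v N hN']
  refine Finset.sum_congr rfl fun n hn => ?_
  rw [coeff_subst_of_lt _ _ constantCoeff_log (Finset.mem_range.mp hn)]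

lemma idpow_eq (N : ℕ) : (toConv LinearMap.id : WithConv (A →ₗ[k] A)) ^ N =
    ev (xel_isLN hU) ((rescale (N : k) (exp k)).subst (log k)) := by
  rw [← one_add_X_pow, ev_pow, ev_one_add_X hU]

lemma idpow_apply (N : ℕ) {a : A} {M : ℕ} (h : IsLN (xel k A) a M) :
    ((toConv LinearMap.id : WithConv (A →ₗ[k] A)) ^ N).ofConv a =
      ∑ j ∈ Finset.range M, ((N : k) ^ j * coeff j (exp k)) • (elog hU ^ j).ofConv a := by
  rw [idpow_eq hU, ev_apply _ _ h]
  have h1 : ∑ n ∈ Finset.range M, coeff n ((rescale (N : k) (exp k)).subst (log k)) •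
      (xel k A ^ n).ofConv a =
      (ev (xel_isLN hU) (∑ j ∈ Finset.range M, coeff j (rescale (N : k) (exp k)) • (log k) ^ j)).ofConv
        a := by
    rw [ev_apply _ _ h]
    refine Finset.sum_congr rfl fun n hn => ?_
    rw [coeff_subst_of_lt _ _ constantCoeff_log (Finset.mem_range.mp hn)]
  rw [h1, ev_sum_smul_log_pow, ofConv_sum, LinearMap.sum_apply]
  refine Finset.sum_congr rfl fun j _ => ?_
  rw [ofConv_smul, LinearMap.smul_apply, coeff_rescale]

omit [CharZero k] in
lemma idpow_mul (N : ℕ) (a b : A) :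
    ((toConv LinearMap.id : WithConv (A →ₗ[k] A)) ^ N).ofConv (a * b) =
      ((toConv LinearMap.id : WithConv (A →ₗ[k] A)) ^ N).ofConv a *
        ((toConv LinearMap.id : WithConv (A →ₗ[k] A)) ^ N).ofConv b := by
  have h := AlgHom.toLinearMap_convPow (toConv (AlgHom.id k A)) N
  have h2 : (toConv LinearMap.id : WithConv (A →ₗ[k] A)) ^ N =
      toConv ((toConv (AlgHom.id k A) ^ N).ofConv.toLinearMap) := by
    rw [h]; rfl
  rw [h2]
  exact map_mul ((toConv (AlgHom.id k A) ^ N).ofConv) a b

/-- `elog` is an `A`-valued `ε`-derivation -/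
theorem elog_mul (a b : A) : (elog hU).ofConv (a * b) =
    CoalgebraStruct.counit (R := k) a • (elog hU).ofConv b +
      CoalgebraStruct.counit (R := k) b • (elog hU).ofConv a := by
  classical
  have hx := xel_isLN hU
  set M : ℕ := max 2 (max (bnd hx a) (max (bnd hx b) (bnd hx (a * b)))) with hM
  have hMa : IsLN (xel k A) a M := (bnd_spec hx a).mono (by omega)
  have hMb : IsLN (xel k A) b M := (bnd_spec hx b).mono (by omega)
  have hMab : IsLN (xel k A) (a * b) M := (bnd_spec hx (a * b)).mono (by omega)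
  have hM2 : 2 ≤ M := le_max_left _ _
  let P : A → Polynomial A := fun c =>
    ∑ j ∈ Finset.range M, Polynomial.monomial j (coeff j (exp k) • (elog hU ^ j).ofConv c)
  have hPeval : ∀ (c : A), IsLN (xel k A) c M → ∀ N : ℕ, (P c).eval (N : A) =
      ((toConv LinearMap.id : WithConv (A →ₗ[k] A)) ^ N).ofConv c := by
    intro c hc N
    rw [idpow_apply hU N hc, Polynomial.eval_finsetSum]
    refine Finset.sum_congr rfl fun j _ => ?_
    rw [Polynomial.eval_monomial, mul_smul, Algebra.smul_def ((N : k) ^ j), map_pow, map_natCast,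
      mul_comm]
  have hPcoeff : ∀ (c : A) (i : ℕ), i < M → (P c).coeff i =
      coeff i (exp k) • (elog hU ^ i).ofConv c := by
    intro c i hi
    simp only [P, Polynomial.finsetSum_coeff, Polynomial.coeff_monomial]
    rw [Finset.sum_ite_eq', if_pos (Finset.mem_range.mpr hi)]
  have hQ : P (a * b) - P a * P b = 0 := by
    apply poly_eq_zero_of_eval_natCast k
    intro N
    rw [Polynomial.eval_sub, Polynomial.eval_mul, hPeval _ hMab, hPeval _ hMa, hPeval _ hMb,
      idpow_mul, sub_self]
  have h1 := congrArg (fun p => Polynomial.coeff p 1) hQ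
  simp only [Polynomial.coeff_sub, Polynomial.mul_coeff_one, Polynomial.coeff_zero] at h1
  rw [hPcoeff _ 1 (by omega), hPcoeff _ 1 (by omega), hPcoeff _ 1 (by omega),
    hPcoeff _ 0 (by omega), hPcoeff _ 0 (by omega)] at h1
  have e0 : coeff 0 (exp k) = 1 := by simp
  have e1 : coeff 1 (exp k) = 1 := by simp
  rw [e0, e1, pow_one, pow_zero, one_smul, one_smul, one_smul, one_smul, one_smul] at h1
  have h3 : ∀ c : A, (1 : WithConv (A →ₗ[k] A)).ofConv c =
      algebraMap k A (CoalgebraStruct.counit (R := k) c) := fun c => rfl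
  rw [h3, h3, sub_eq_zero] at h1
  rw [h1, Algebra.smul_def, Algebra.smul_def, mul_comm ((elog hU).ofConv a)]

end Main

end Groth.Agent.H9.UnipLie
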