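import Mathlib
import Groth.Agent.Lib.Helper9.UnipLie.Main

/-!
# Unipotent groups in characteristic zero are connected (helper9)
-/

set_option autoImplicit false

universe u v w w'

open TensorProduct WithConv

namespace Groth.Agent.H9.UnipLie

section Conn

variable {k : Type u} [Field k] [CharZero k] {A : Type v} [CommRing A] [Bialgebra k A]
variable (hU : HopfRep.IsUnipotent k A)

/-- a vector killed by `T elog` is fixed -/
theorem coact_eq_of_T_elog_eq_zero {V : Type v} [AddCommGroup V] [Module k V]
    (c : HopfRep.Comod k A V) (v : V) (h1 : T c (elog hU) v = 0) :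
    c.coact v = v ⊗ₜ[k] (1 : A) := by
  have h2 : ∀ j : ℕ, T c (elog hU ^ (j + 1)) v = 0 := by
    intro j
    rw [pow_succ, T_mul_apply, h1, map_zero, map_zero]
  obtain ⟨N₀, hN₀⟩ := coact_eq_T_expTrunc hU V c v
  rw [hN₀ (N₀ + 1) (Nat.le_succ _), expTrunc, T_sum, LinearMap.sum_apply,
    Finset.sum_eq_single 0]
  · rw [pow_zero, T_smul, LinearMap.smul_apply, T_one_apply]
    simp
  · intro j _ hj
    obtain ⟨j', rfl⟩ := Nat.exists_eq_succ_of_ne_zero hj
    rw [T_smul, LinearMap.smul_apply, h2, smul_zero]
  · intro h
    exact absurd (Finset.mem_range.mpr (Nat.succ_pos _)) h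

omit [CharZero k] in
/-- slices of products along an `ε`-derivation -/
lemma slice_mul_of_leibniz (ξ : A →ₗ[k] k)
    (hξ : ∀ a b : A, ξ (a * b) = CoalgebraStruct.counit (R := k) a * ξ b +
      CoalgebraStruct.counit (R := k) b * ξ a) (s t : A ⊗[k] A) :
    Comod.slice ξ (s * t) = Comod.slice (CoalgebraStruct.counit (R := k) (A := A)) s * Comod.slice ξ t +
      Comod.slice (CoalgebraStruct.counit (R := k) (A := A)) t * Comod.slice ξ s := by
  induction s using TensorProduct.induction_on with
  | zero => simp
  | tmul a a' =>
    induction t using TensorProduct.induction_on with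
    | zero => simp
    | tmul b b' =>
      rw [Algebra.TensorProduct.tmul_mul_tmul, Comod.slice_tmul, Comod.slice_tmul,
        Comod.slice_tmul, Comod.slice_tmul, Comod.slice_tmul, hξ, add_smul, smul_mul_smul_comm,
        smul_mul_smul_comm, mul_comm b a]
    | add x y hx hy =>
      rw [mul_add, map_add, hx, hy, map_add, map_add]
      ring
  | add x y hx hy =>
    rw [add_mul, map_add, hx, hy, map_add, map_add]
    ring

omit [CharZero k] in
/-- the left-invariant derivation attached to an `ε`-derivation -/
lemma slice_comul_mul (ξ : A →ₗ[k] k)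
    (hξ : ∀ a b : A, ξ (a * b) = CoalgebraStruct.counit (R := k) a * ξ b +
      CoalgebraStruct.counit (R := k) b * ξ a) (a b : A) :
    Comod.slice ξ (CoalgebraStruct.comul (R := k) (a * b)) =
      a * Comod.slice ξ (CoalgebraStruct.comul (R := k) b) +
        b * Comod.slice ξ (CoalgebraStruct.comul (R := k) a) := by
  have h1 : ∀ a : A, Comod.slice (CoalgebraStruct.counit (R := k) (A := A))
      (CoalgebraStruct.comul (R := k) a) = a := by
    intro a
    show (TensorProduct.rid k A) (LinearMap.lTensor A _ _) = a
    rw [Coalgebra.lTensor_counit_comul, TensorProduct.rid_tmul, one_smul]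
  rw [Bialgebra.comul_mul, slice_mul_of_leibniz ξ hξ, h1, h1]

include hU in
/-- over a field of characteristic zero, a unipotent group is connected -/
theorem idempotent_eq_zero_or_one (e : A) (he : IsIdempotentElem e) : e = 0 ∨ e = 1 := by
  have hT : T (HopfRep.Comod.regular k A) (elog hU) e = 0 := by
    apply Comod.eq_zero_of_slice_eq_zero
    intro φ
    rw [slice_T]
    set ξ : A →ₗ[k] k := φ ∘ₗ (elog hU).ofConv with hξdef
    have hξ : ∀ a b : A, ξ (a * b) = CoalgebraStruct.counit (R := k) a * ξ b +
        CoalgebraStruct.counit (R := k) b * ξ a := by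
      intro a b
      show φ ((elog hU).ofConv (a * b)) = _
      rw [elog_mul, map_add, map_smul, map_smul]
      rfl
    have hd := slice_comul_mul ξ hξ e e
    rw [he.eq] at hd
    set d := Comod.slice ξ (CoalgebraStruct.comul (R := k) e) with hddef
    have h2 : e * d = 0 := by
      have := congrArg (fun z => e * z) hd
      simp only [mul_add, ← mul_assoc, he.eq] at this
      have h3 : e * d = e * d + e * d := this
      exact left_eq_add.mp h3
    show d = 0
    rw [hd, h2, add_zero]
  have h1 := coact_eq_of_T_elog_eq_zero hU (HopfRep.Comod.regular k A) e hT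
  have h2 : CoalgebraStruct.comul (R := k) e = e ⊗ₜ[k] (1 : A) := h1
  have h3 := Coalgebra.rTensor_counit_comul (R := k) e
  rw [h2, LinearMap.rTensor_tmul] at h3
  have h4 := congrArg (TensorProduct.lid k A) h3
  rw [TensorProduct.lid_tmul, TensorProduct.lid_tmul, one_smul] at h4
  have h5 : IsIdempotentElem (CoalgebraStruct.counit (R := k) e) := by
    show _ * _ = _
    rw [← Bialgebra.counit_mul, he.eq]
  rcases IsIdempotentElem.iff_eq_zero_or_one.mp h5 with h0 | h1'
  · left
    rw [← h4, h0, zero_smul]
  · right
    rw [← h4, h1', one_smul]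

end Conn

end Groth.Agent.H9.UnipLie
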