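import Mathlib
import Groth.Agent.Lib.Helper9.UnipLie.Calc

/-!
# Points of a unipotent group with values in an algebra (helper9)

Post-composition with an algebra map `g : A → B` is an algebra map of convolution algebras; so
`g - 1` is locally nilpotent for every point `g` of a unipotent group.
-/

set_option autoImplicit false

universe u v w w'

open TensorProduct WithConv

namespace Groth.Agent.H9.UnipLie

section Post

variable {k : Type u} [Field k] {A : Type v} [CommRing A] [Bialgebra k A]
  {B : Type w} [CommRing B] [Algebra k B]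

/-- post-composition with an algebra map, as an algebra map of convolution algebras -/
noncomputable def postAlg (g : A →ₐ[k] B) : WithConv (A →ₗ[k] A) →ₐ[k] WithConv (A →ₗ[k] B) :=
  AlgHom.ofLinearMap
    { toFun := fun f => toConv (g.toLinearMap ∘ₗ f.ofConv)
      map_add' := by
        intro f f'
        apply WithConv.ofConv_injective
        rw [ofConv_add, ofConv_toConv, ofConv_toConv, ofConv_toConv, ofConv_add, LinearMap.comp_add]
      map_smul' := by
        intro r f
        apply WithConv.ofConv_injective
        rw [RingHom.id_apply, ofConv_smul, ofConv_toConv, ofConv_toConv, ofConv_smul,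
          LinearMap.comp_smul] }
    (by
      apply WithConv.ofConv_injective
      apply LinearMap.ext; intro a
      show g ((1 : WithConv (A →ₗ[k] A)).ofConv a) = (1 : WithConv (A →ₗ[k] B)).ofConv a
      show g (algebraMap k A _) = algebraMap k B _
      rw [AlgHom.commutes])
    (by
      intro f f'
      apply WithConv.ofConv_injective
      exact LinearMap.algHom_comp_convMul_distrib g f f')

lemma postAlg_apply (g : A →ₐ[k] B) (f : WithConv (A →ₗ[k] A)) (a : A) :
    (postAlg g f).ofConv a = g (f.ofConv a) := rfl

lemma postAlg_id (g : A →ₐ[k] B) :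
    postAlg g (toConv LinearMap.id) = toConv g.toLinearMap := rfl

lemma postAlg_xel (g : A →ₐ[k] B) :
    postAlg g (xel k A) = toConv g.toLinearMap - 1 := by
  rw [xel, map_sub, map_one, postAlg_id]

end Post

section Torsion

variable {k : Type u} [Field k] {A : Type v} [CommRing A] [Bialgebra k A]

/-- in a unipotent group, a point of finite order prime to the characteristic is trivial -/
theorem eq_one_of_pow_eq_one (hU : HopfRep.IsUnipotent k A) (g : WithConv (A →ₐ[k] k)) (n : ℕ)
    (hn : (n : k) ≠ 0) (hg : g ^ n = 1) : g = 1 := by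
  classical
  set γ : WithConv (A →ₗ[k] k) := toConv g.ofConv.toLinearMap with hγ
  have hγn : γ ^ n = 1 := by
    rw [hγ, ← AlgHom.toLinearMap_convPow, hg]
    rfl
  set u : WithConv (A →ₗ[k] k) := γ - 1 with hu
  have hu' : u = postAlg g.ofConv (xel k A) := (postAlg_xel g.ofConv).symm
  -- the polynomial `(1 + X)^n - 1 = X * Q`
  set P : Polynomial k := (1 + Polynomial.X) ^ n - 1 with hP
  have hP0 : P.coeff 0 = 0 := by
    rw [Polynomial.coeff_zero_eq_eval_zero, hP]
    simp
  have hPu : Polynomial.aeval u P = 0 := by
    rw [hP, map_sub, map_pow, map_add, map_one, Polynomial.aeval_X, hu, add_sub_cancel, hγn,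
      sub_self]
  set Q : Polynomial k := P.divX with hQ
  have hPQ : Polynomial.X * Q = P := by
    have := Polynomial.X_mul_divX_add P
    rw [hP0, map_zero, add_zero] at this
    exact this
  have hQ0 : Q.coeff 0 = (n : k) := by
    rw [hQ, Polynomial.coeff_divX, hP, Polynomial.coeff_sub, Polynomial.coeff_one_add_X_pow]
    simp [Polynomial.coeff_one]
  have hcop : IsCoprime Q Polynomial.X := by
    refine ⟨Polynomial.C (n : k)⁻¹, -(Polynomial.C (n : k)⁻¹ * Q.divX), ?_⟩
    have h1 := Polynomial.X_mul_divX_add Q
    rw [hQ0] at h1
    calc Polynomial.C (n : k)⁻¹ * Q + -(Polynomial.C (n : k)⁻¹ * Q.divX) * Polynomial.X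
        = Polynomial.C (n : k)⁻¹ * (Q - Polynomial.X * Q.divX) := by ring
      _ = Polynomial.C (n : k)⁻¹ * Polynomial.C (n : k) := by
          rw [sub_eq_of_eq_add' h1.symm]
      _ = 1 := by rw [← Polynomial.C_mul, inv_mul_cancel₀ hn, Polynomial.C_1]
  have hzero : ∀ a : A, u.ofConv a = 0 := by
    intro a
    obtain ⟨N, hN⟩ := exists_xel_pow_apply_eq_zero hU a
    obtain ⟨S, R, hSR⟩ := hcop.pow_right (n := N)
    have hX : (Polynomial.X : Polynomial k) = S * P + R * Polynomial.X ^ (N + 1) := by
      calc (Polynomial.X : Polynomial k) = (S * Q + R * Polynomial.X ^ N) * Polynomial.X := by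
            rw [hSR, one_mul]
        _ = S * P + R * Polynomial.X ^ (N + 1) := by rw [← hPQ]; ring
    have h2 : u = Polynomial.aeval u (R * Polynomial.X ^ (N + 1)) := by
      conv_lhs => rw [← Polynomial.aeval_X (R := k) u, hX, map_add, map_mul, hPu, mul_zero,
        zero_add]
    rw [h2, hu', Polynomial.aeval_algHom_apply, postAlg_apply,
      aeval_apply (x := xel k A) (N := N) hN, map_sum]
    apply Finset.sum_eq_zero
    intro j hj
    rw [Polynomial.coeff_mul_X_pow', if_neg (by rw [Finset.mem_range] at hj; omega), zero_smul,
      map_zero]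
  have hγ1 : γ = 1 := by
    apply WithConv.ofConv_injective
    apply LinearMap.ext; intro a
    have := hzero a
    rw [hu, ofConv_sub, LinearMap.sub_apply, sub_eq_zero] at this
    exact this
  apply WithConv.ofConv_injective
  apply AlgHom.toLinearMap_injective
  apply WithConv.toConv_injective
  rw [← hγ, hγ1]
  rfl

end Torsion

end Groth.Agent.H9.UnipLie
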