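import Mathlib
import Groth.Agent.Lib.Helper9.UnipLie.Main
import Groth.Agent.Lib.Helper9.UnipLie.Points
import Groth.Agent.Lib.Helper9.UnipLie.Conn

/-!
# Commutative unipotent groups in characteristic zero are vector groups (helper9)

For `A` commutative, cocommutative, unipotent over a field of characteristic zero, `elog a` is
primitive for every `a`, and `A` is generated by primitive elements.
-/

set_option autoImplicit false

universe u v w w'

open TensorProduct WithConv PowerSeries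

namespace Groth.Agent.H9.UnipLie

section Ppoly

variable {k : Type u} [Field k] [CharZero k] {A : Type v} [CommRing A] [Bialgebra k A]
variable (hU : HopfRep.IsUnipotent k A)

/-- the polynomial `T ↦ exp (T elog) a`, truncated -/
noncomputable def Ppoly (M : ℕ) (c : A) : Polynomial A :=
  ∑ j ∈ Finset.range M, Polynomial.monomial j (coeff j (exp k) • (elog hU ^ j).ofConv c)

lemma Ppoly_eval {M : ℕ} {c : A} (hc : IsLN (xel k A) c M) (N : ℕ) :
    (Ppoly hU M c).eval (N : A) = ((toConv LinearMap.id : WithConv (A →ₗ[k] A)) ^ N).ofConv c := by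
  rw [idpow_apply hU N hc, Ppoly, Polynomial.eval_finsetSum]
  refine Finset.sum_congr rfl fun j _ => ?_
  rw [Polynomial.eval_monomial, mul_smul, Algebra.smul_def ((N : k) ^ j), map_pow, map_natCast,
    mul_comm]

lemma Ppoly_coeff {M : ℕ} (c : A) {i : ℕ} (hi : i < M) :
    (Ppoly hU M c).coeff i = coeff i (exp k) • (elog hU ^ i).ofConv c := by
  classical
  simp only [Ppoly, Polynomial.finsetSum_coeff, Polynomial.coeff_monomial]
  rw [Finset.sum_ite_eq', if_pos (Finset.mem_range.mpr hi)]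

lemma Ppoly_coeff_zero {M : ℕ} (c : A) (hM : 0 < M) :
    (Ppoly hU M c).coeff 0 = algebraMap k A (CoalgebraStruct.counit (R := k) c) := by
  rw [Ppoly_coeff hU c hM, pow_zero]
  have e0 : coeff 0 (exp k) = 1 := by simp
  rw [e0, one_smul]
  rfl

lemma Ppoly_coeff_one {M : ℕ} (c : A) (hM : 1 < M) :
    (Ppoly hU M c).coeff 1 = (elog hU).ofConv c := by
  rw [Ppoly_coeff hU c hM, pow_one]
  have e1 : coeff 1 (exp k) = 1 := by simp
  rw [e1, one_smul]

end Ppoly

section Cocomm

variable {k : Type u} [Field k] [CharZero k] {A : Type v} [CommRing A] [Bialgebra k A]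
  [Coalgebra.IsCocomm k A]
variable (hU : HopfRep.IsUnipotent k A)

omit [CharZero k] in
/-- for a commutative group the `N`-th power map is a homomorphism -/
lemma comul_idpow (N : ℕ) (a : A) :
    CoalgebraStruct.comul (R := k) (((toConv LinearMap.id : WithConv (A →ₗ[k] A)) ^ N).ofConv a) =
      (postAlg (Algebra.TensorProduct.includeLeft : A →ₐ[k] A ⊗[k] A)
          ((toConv LinearMap.id : WithConv (A →ₗ[k] A)) ^ N) *
        postAlg ((Algebra.TensorProduct.includeRight : A →ₐ[k] A ⊗[k] A))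
          ((toConv LinearMap.id : WithConv (A →ₗ[k] A)) ^ N)).ofConv a := by
  have h1 : postAlg (Bialgebra.comulAlgHom k A) (toConv LinearMap.id) =
      postAlg (Algebra.TensorProduct.includeLeft : A →ₐ[k] A ⊗[k] A) (toConv LinearMap.id) *
        postAlg (Algebra.TensorProduct.includeRight : A →ₐ[k] A ⊗[k] A) (toConv LinearMap.id) := by
    apply WithConv.ofConv_injective
    apply LinearMap.ext; intro b
    show _ = (_ * _ : WithConv (A →ₗ[k] A ⊗[k] A)) b
    rw [(Coalgebra.Repr.arbitrary k b).convMul_apply]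
    show CoalgebraStruct.comul (R := k) b = _
    rw [← (Coalgebra.Repr.arbitrary k b).eq]
    refine Finset.sum_congr rfl fun l _ => ?_
    show _ = (_ ⊗ₜ[k] (1 : A)) * ((1 : A) ⊗ₜ[k] _)
    rw [Algebra.TensorProduct.tmul_mul_tmul, mul_one, one_mul]
    rfl
  have h2 := congrArg (fun f => f ^ N) h1
  simp only [← map_pow, mul_pow] at h2
  have h3 := congrArg (fun f : WithConv (A →ₗ[k] A ⊗[k] A) => f.ofConv a) h2
  exact h3

/-- for a commutative unipotent group in characteristic zero, `elog a` is primitive -/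
theorem comul_elog (a : A) : CoalgebraStruct.comul (R := k) ((elog hU).ofConv a) =
    (elog hU).ofConv a ⊗ₜ[k] (1 : A) + (1 : A) ⊗ₜ[k] (elog hU).ofConv a := by
  classical
  have hx := xel_isLN hU
  set 𝓡 := Coalgebra.Repr.arbitrary k a with h𝓡
  set M : ℕ := max 2 (max (bnd hx a)
    (𝓡.index.sup fun l => max (bnd hx (𝓡.left l)) (bnd hx (𝓡.right l)))) with hM
  have hM2 : 2 ≤ M := le_max_left _ _
  have hMa : IsLN (xel k A) a M := (bnd_spec hx a).mono (by omega)
  have hsup : ∀ l ∈ 𝓡.index, max (bnd hx (𝓡.left l)) (bnd hx (𝓡.right l)) ≤ M := fun l hl =>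
    le_trans (Finset.le_sup (f := fun l => max (bnd hx (𝓡.left l)) (bnd hx (𝓡.right l))) hl)
      (le_trans (le_max_right _ _) (le_max_right _ _))
  have hMl : ∀ l ∈ 𝓡.index, IsLN (xel k A) (𝓡.left l) M := fun l hl =>
    (bnd_spec hx (𝓡.left l)).mono (le_trans (le_max_left _ _) (hsup l hl))
  have hMr : ∀ l ∈ 𝓡.index, IsLN (xel k A) (𝓡.right l) M := fun l hl =>
    (bnd_spec hx (𝓡.right l)).mono (le_trans (le_max_right _ _) (hsup l hl))
  let incL : A →+* A ⊗[k] A := (Algebra.TensorProduct.includeLeft : A →ₐ[k] A ⊗[k] A)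
  let incR : A →+* A ⊗[k] A := (Algebra.TensorProduct.includeRight : A →ₐ[k] A ⊗[k] A)
  let cm : A →+* A ⊗[k] A := (Bialgebra.comulAlgHom k A : A →ₐ[k] A ⊗[k] A)
  have hQ : (Ppoly hU M a).map cm - ∑ l ∈ 𝓡.index,
      (Ppoly hU M (𝓡.left l)).map incL * (Ppoly hU M (𝓡.right l)).map incR = 0 := by
    apply poly_eq_zero_of_eval_natCast k
    intro N
    rw [Polynomial.eval_sub, Polynomial.eval_finsetSum, sub_eq_zero]
    have e1 : ((N : ℕ) : A ⊗[k] A) = cm (N : A) := (map_natCast cm N).symm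
    have e2 : ((N : ℕ) : A ⊗[k] A) = incL (N : A) := (map_natCast incL N).symm
    have e3 : ((N : ℕ) : A ⊗[k] A) = incR (N : A) := (map_natCast incR N).symm
    rw [show Polynomial.eval ((N : ℕ) : A ⊗[k] A) ((Ppoly hU M a).map cm) =
      Polynomial.eval (cm (N : A)) ((Ppoly hU M a).map cm) by rw [← e1], Polynomial.eval_map_apply,
      Ppoly_eval hU hMa]
    show CoalgebraStruct.comul (R := k) _ = _
    rw [comul_idpow]
    show (_ * _ : WithConv (A →ₗ[k] A ⊗[k] A)) a = _
    rw [𝓡.convMul_apply]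
    refine Finset.sum_congr rfl fun l hl => ?_
    rw [Polynomial.eval_mul]
    rw [show Polynomial.eval ((N : ℕ) : A ⊗[k] A) ((Ppoly hU M (𝓡.left l)).map incL) =
      Polynomial.eval (incL (N : A)) ((Ppoly hU M (𝓡.left l)).map incL) by rw [← e2],
      show Polynomial.eval ((N : ℕ) : A ⊗[k] A) ((Ppoly hU M (𝓡.right l)).map incR) =
      Polynomial.eval (incR (N : A)) ((Ppoly hU M (𝓡.right l)).map incR) by rw [← e3],
      Polynomial.eval_map_apply, Polynomial.eval_map_apply, Ppoly_eval hU (hMl l hl),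
      Ppoly_eval hU (hMr l hl)]
    rfl
  have h1 := congrArg (fun p => Polynomial.coeff p 1) hQ
  simp only [Polynomial.coeff_sub, Polynomial.finsetSum_coeff, Polynomial.mul_coeff_one,
    Polynomial.coeff_map, Polynomial.coeff_zero] at h1
  rw [Ppoly_coeff_one hU a (by omega), sub_eq_zero] at h1
  have h2 : ∀ l ∈ 𝓡.index,
      incL ((Ppoly hU M (𝓡.left l)).coeff 0) * incR ((Ppoly hU M (𝓡.right l)).coeff 1) +
        incL ((Ppoly hU M (𝓡.left l)).coeff 1) * incR ((Ppoly hU M (𝓡.right l)).coeff 0) =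
      (1 : A) ⊗ₜ[k] (CoalgebraStruct.counit (R := k) (𝓡.left l) • (elog hU).ofConv (𝓡.right l)) +
        (CoalgebraStruct.counit (R := k) (𝓡.right l) • (elog hU).ofConv (𝓡.left l)) ⊗ₜ[k] (1 : A) := by
    intro l _
    rw [Ppoly_coeff_zero hU _ (by omega), Ppoly_coeff_zero hU _ (by omega),
      Ppoly_coeff_one hU _ (by omega), Ppoly_coeff_one hU _ (by omega)]
    show (algebraMap k A _ ⊗ₜ[k] (1 : A)) * ((1 : A) ⊗ₜ[k] _) +
      (_ ⊗ₜ[k] (1 : A)) * ((1 : A) ⊗ₜ[k] algebraMap k A _) = _
    rw [Algebra.TensorProduct.tmul_mul_tmul, Algebra.TensorProduct.tmul_mul_tmul, mul_one, one_mul,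
      mul_one, one_mul, Algebra.algebraMap_eq_smul_one, Algebra.algebraMap_eq_smul_one]
    congr 1
    · rw [TensorProduct.smul_tmul]
    · rw [TensorProduct.tmul_smul, TensorProduct.smul_tmul']
  have h3 : cm ((elog hU).ofConv a) = CoalgebraStruct.comul (R := k) ((elog hU).ofConv a) := rfl
  rw [← h3, h1, Finset.sum_congr rfl h2, Finset.sum_add_distrib, ← TensorProduct.tmul_sum,
    ← TensorProduct.sum_tmul]
  have h4 := Coalgebra.sum_tmul_counit_eq (R := k) 𝓡
  have h5 := congrArg (TensorProduct.rid k A) h4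
  rw [map_sum] at h5
  have h5' : ∑ x ∈ 𝓡.index, CoalgebraStruct.counit (R := k) (𝓡.right x) • 𝓡.left x = a := by
    simpa using h5
  have h6 : ∑ x ∈ 𝓡.index, CoalgebraStruct.counit (R := k) (𝓡.right x) •
      (elog hU).ofConv (𝓡.left x) = (elog hU).ofConv a := by
    conv_rhs => rw [← h5', map_sum]
    simp only [map_smul]
  have h7 : ∑ x ∈ 𝓡.index, CoalgebraStruct.counit (R := k) (𝓡.left x) •
      (elog hU).ofConv (𝓡.right x) = (elog hU).ofConv a := by
    conv_rhs => rw [← Coalgebra.sum_counit_smul 𝓡, map_sum]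
    simp only [map_smul]
  rw [h6, h7, add_comm]

end Cocomm

end Groth.Agent.H9.UnipLie
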