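import Mathlib
import Groth.Agent.Lib.Helper9.UnipLie.Prim

/-!
# Commutative unipotent groups in characteristic zero are vector groups, part 2 (helper9)
-/

set_option autoImplicit false

universe u v w w'

open TensorProduct WithConv PowerSeries

namespace Groth.Agent.H9.UnipLie

section Gen

variable {k : Type u} [Field k] [CharZero k] {A : Type v} [CommRing A] [Bialgebra k A]
variable (hU : HopfRep.IsUnipotent k A)

lemma apply_eq_expTrunc (a : A) : ∃ N₀ : ℕ, ∀ N, N₀ ≤ N → a = (expTrunc hU N).ofConv a := by
  obtain ⟨N₀, h⟩ := coact_eq_T_expTrunc hU A (HopfRep.Comod.regular k A) a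
  refine ⟨N₀, fun N hN => ?_⟩
  rw [apply_eq_lid_T_regular, ← h N hN]
  show a = TensorProduct.lid k A ((CoalgebraStruct.counit (R := k) (A := A)).rTensor A
    (CoalgebraStruct.comul (R := k) a))
  rw [Coalgebra.rTensor_counit_comul, TensorProduct.lid_tmul, one_smul]

lemma elog_pow_mem_adjoin (j : ℕ) : ∀ a : A,
    (elog hU ^ j).ofConv a ∈ Algebra.adjoin k (Set.range (elog hU).ofConv) := by
  induction j with
  | zero =>
    intro a
    rw [pow_zero]
    exact Subalgebra.algebraMap_mem _ _
  | succ j ih =>
    intro a
    rw [pow_succ]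
    show (elog hU ^ j * elog hU) a ∈ _
    rw [(Coalgebra.Repr.arbitrary k a).convMul_apply]
    refine Subalgebra.sum_mem _ fun l _ => ?_
    exact Subalgebra.mul_mem _ (ih _) (Algebra.subset_adjoin ⟨_, rfl⟩)

/-- a unipotent Hopf algebra in characteristic zero is generated by the image of `elog` -/
theorem adjoin_range_elog : Algebra.adjoin k (Set.range (elog hU).ofConv) = ⊤ := by
  rw [eq_top_iff]
  intro a _
  obtain ⟨N₀, h⟩ := apply_eq_expTrunc hU a
  rw [h N₀ le_rfl, expTrunc, ofConv_sum, LinearMap.sum_apply]
  refine Subalgebra.sum_mem _ fun j _ => ?_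
  rw [ofConv_smul, LinearMap.smul_apply]
  exact Subalgebra.smul_mem _ (elog_pow_mem_adjoin hU j a) _

omit [CharZero k] in
lemma xel_apply (a : A) : (xel k A).ofConv a = a - algebraMap k A (CoalgebraStruct.counit (R := k) a) :=
  rfl

omit [CharZero k] in
lemma xel_pow_succ_one (m : ℕ) : (xel k A ^ (m + 1)).ofConv 1 = 0 := by
  induction m with
  | zero =>
    rw [zero_add, pow_one, xel_apply, Bialgebra.counit_one, map_one, sub_self]
  | succ m ih =>
    rw [pow_succ]
    show (xel k A ^ (m + 1) * xel k A) (1 : A) = 0
    rw [LinearMap.convMul_apply, Bialgebra.comul_one, Algebra.TensorProduct.one_def,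
      TensorProduct.map_tmul, LinearMap.mul'_apply, ih, zero_mul]

omit [CharZero k] in
lemma xel_pow_primitive {x : A}
    (hx : CoalgebraStruct.comul (R := k) x = x ⊗ₜ[k] (1 : A) + (1 : A) ⊗ₜ[k] x) (n : ℕ) (hn : 2 ≤ n) :
    (xel k A ^ n).ofConv x = 0 := by
  obtain ⟨m, rfl⟩ : ∃ m, n = m + 1 + 1 := ⟨n - 2, by omega⟩
  rw [pow_succ]
  show (xel k A ^ (m + 1) * xel k A) x = 0
  rw [LinearMap.convMul_apply, hx, map_add, TensorProduct.map_tmul, TensorProduct.map_tmul, map_add,
    LinearMap.mul'_apply, LinearMap.mul'_apply, xel_pow_succ_one]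
  have h1 : (xel k A).ofConv 1 = 0 := by
    have := xel_pow_succ_one (k := k) (A := A) 0
    rwa [zero_add, pow_one] at this
  rw [h1, mul_zero, zero_mul, add_zero]

omit [CharZero k] in
lemma counit_primitive {x : A}
    (hx : CoalgebraStruct.comul (R := k) x = x ⊗ₜ[k] (1 : A) + (1 : A) ⊗ₜ[k] x) :
    CoalgebraStruct.counit (R := k) x = 0 := by
  have h1 := Coalgebra.rTensor_counit_comul (R := k) x
  rw [hx, map_add, LinearMap.rTensor_tmul, LinearMap.rTensor_tmul, Bialgebra.counit_one] at h1
  have h2 := congrArg (TensorProduct.lid k A) h1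
  simp only [map_add, TensorProduct.lid_tmul, one_smul] at h2
  rw [add_eq_right] at h2
  have h3 := congrArg (CoalgebraStruct.counit (R := k)) h2
  rwa [map_smul, Bialgebra.counit_one, smul_eq_mul, mul_one, map_zero] at h3

/-- `elog` is the identity on primitive elements -/
lemma elog_primitive {x : A}
    (hx : CoalgebraStruct.comul (R := k) x = x ⊗ₜ[k] (1 : A) + (1 : A) ⊗ₜ[k] x) :
    (elog hU).ofConv x = x := by
  have hLN : IsLN (xel k A) x 2 := fun n hn => xel_pow_primitive hx n hn
  rw [elog, ev_apply _ _ hLN, Finset.sum_range_succ, Finset.sum_range_one, pow_zero, pow_one,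
    xel_apply, counit_primitive hx, map_zero, sub_zero]
  simp

lemma elog_one : (elog hU).ofConv (1 : A) = 0 := by
  have := elog_mul hU (1 : A) 1
  rw [mul_one, Bialgebra.counit_one, one_smul] at this
  exact left_eq_add.mp this

end Gen

section FinGen

variable {k : Type u} [CommRing k] {A : Type v} [CommRing A] [Algebra k A]

/-- a generating set of a finitely generated algebra contains a finite generating set -/
lemma exists_finset_subset_adjoin_eq_top [Algebra.FiniteType k A] (S : Set A)
    (hS : Algebra.adjoin k S = ⊤) :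
    ∃ T : Finset A, (T : Set A) ⊆ S ∧ Algebra.adjoin k (T : Set A) = ⊤ := by
  classical
  have key : ∀ a ∈ Algebra.adjoin k S, ∃ T : Finset A, (T : Set A) ⊆ S ∧
      a ∈ Algebra.adjoin k (T : Set A) := by
    intro a ha
    induction ha using Algebra.adjoin_induction with
    | mem x hx =>
      exact ⟨{x}, by simpa using hx, Algebra.subset_adjoin (by simp)⟩
    | algebraMap r => exact ⟨∅, by simp, Subalgebra.algebraMap_mem _ _⟩
    | add x y _ _ hx hy =>
      obtain ⟨T1, h1, h1'⟩ := hx
      obtain ⟨T2, h2, h2'⟩ := hy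
      refine ⟨T1 ∪ T2, by rw [Finset.coe_union]; exact Set.union_subset h1 h2, ?_⟩
      rw [Finset.coe_union]
      exact Subalgebra.add_mem _ (Algebra.adjoin_mono Set.subset_union_left h1')
        (Algebra.adjoin_mono Set.subset_union_right h2')
    | mul x y _ _ hx hy =>
      obtain ⟨T1, h1, h1'⟩ := hx
      obtain ⟨T2, h2, h2'⟩ := hy
      refine ⟨T1 ∪ T2, by rw [Finset.coe_union]; exact Set.union_subset h1 h2, ?_⟩
      rw [Finset.coe_union]
      exact Subalgebra.mul_mem _ (Algebra.adjoin_mono Set.subset_union_left h1')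
        (Algebra.adjoin_mono Set.subset_union_right h2')
  obtain ⟨G, hG⟩ := (Algebra.FiniteType.out : (⊤ : Subalgebra k A).FG)
  have key' : ∀ g : A, ∃ T : Finset A, (T : Set A) ⊆ S ∧ g ∈ Algebra.adjoin k (T : Set A) :=
    fun g => key g (by rw [hS]; trivial)
  choose Tf hTf hTf' using key'
  refine ⟨G.biUnion Tf, ?_, ?_⟩
  · intro y hy
    rw [Finset.mem_coe, Finset.mem_biUnion] at hy
    obtain ⟨g, _, hy⟩ := hy
    exact hTf g hy
  · rw [eq_top_iff, ← hG]
    apply Algebra.adjoin_le
    intro g hg
    refine Algebra.adjoin_mono ?_ (hTf' g)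
    intro y hy
    rw [Finset.mem_coe, Finset.mem_biUnion]
    exact ⟨g, hg, hy⟩

end FinGen

section AlgInd

variable {k : Type u} [Field k] [CharZero k] {A : Type v} [CommRing A] [Algebra k A]

omit [CharZero k] in
lemma derivation_aeval {n : ℕ} (x : Fin n → A) (d : Derivation k A A)
    (f : MvPolynomial (Fin n) k) :
    d (MvPolynomial.aeval x f) =
      ∑ i, MvPolynomial.aeval x (MvPolynomial.pderiv i f) * d (x i) := by
  classical
  induction f using MvPolynomial.induction_on with
  | C a =>
    simp
  | add p q hp hq =>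
    simp only [map_add, hp, hq, add_mul, Finset.sum_add_distrib]
  | mul_X p j hp =>
    have hterm : ∀ i, MvPolynomial.aeval x (MvPolynomial.pderiv i (p * MvPolynomial.X j)) * d (x i) =
        (if j = i then MvPolynomial.aeval x p * d (x i) else 0) +
          x j * (MvPolynomial.aeval x (MvPolynomial.pderiv i p) * d (x i)) := by
      intro i
      rw [Derivation.leibniz, MvPolynomial.pderiv_X, Pi.single_apply]
      split_ifs with h
      · simp only [smul_eq_mul, mul_one, map_add, map_mul, MvPolynomial.aeval_X]
        ring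
      · simp only [smul_eq_mul, mul_zero, map_add, map_mul, MvPolynomial.aeval_X, map_zero]
        ring
    rw [Finset.sum_congr rfl (fun i _ => hterm i), Finset.sum_add_distrib, Finset.sum_ite_eq,
      if_pos (Finset.mem_univ _), ← Finset.mul_sum, ← hp, map_mul, MvPolynomial.aeval_X,
      Derivation.leibniz, smul_eq_mul, smul_eq_mul]

omit [CharZero k] in
lemma totalDegree_pderiv_le {n : ℕ} (i : Fin n) (f : MvPolynomial (Fin n) k) :
    (MvPolynomial.pderiv i f).totalDegree ≤ f.totalDegree - 1 := by
  classical
  rw [MvPolynomial.totalDegree]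
  apply Finset.sup_le
  intro m hm
  rw [MvPolynomial.mem_support_iff, MvPolynomial.coeff_pderiv] at hm
  have h1 : MvPolynomial.coeff (m + Finsupp.single i 1) f ≠ 0 := left_ne_zero_of_mul hm
  have h2 := MvPolynomial.le_totalDegree (MvPolynomial.mem_support_iff.mpr h1)
  rw [Finsupp.sum_add_index' (fun _ => rfl) (fun _ _ _ => rfl),
    Finsupp.sum_single_index rfl] at h2
  omega

lemma eq_C_of_pderiv_eq_zero {n : ℕ} (f : MvPolynomial (Fin n) k)
    (h : ∀ i, MvPolynomial.pderiv i f = 0) : f = MvPolynomial.C (MvPolynomial.coeff 0 f) := by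
  classical
  ext m
  rw [MvPolynomial.coeff_C]
  by_cases hm : 0 = m
  · rw [if_pos hm, hm]
  · rw [if_neg hm]
    have : ∃ i, m i ≠ 0 := by
      by_contra hcon
      push Not at hcon
      exact hm (Finsupp.ext fun i => (hcon i).symm)
    obtain ⟨i, hi⟩ := this
    have h1 := congrArg (MvPolynomial.coeff (m - Finsupp.single i 1)) (h i)
    rw [MvPolynomial.coeff_pderiv, MvPolynomial.coeff_zero] at h1
    have h2 : m - Finsupp.single i 1 + Finsupp.single i 1 = m := by
      ext j
      by_cases hj : j = i
      · subst hj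
        simp only [Finsupp.coe_add, Finsupp.coe_tsub, Pi.add_apply, Pi.sub_apply,
          Finsupp.single_eq_same]
        omega
      · simp [Finsupp.single_eq_of_ne hj]
    rw [h2] at h1
    have h3 : ∀ q : ℕ, ((q : k) + 1) ≠ 0 := by
      intro q
      exact_mod_cast Nat.succ_ne_zero q
    exact (mul_eq_zero.mp h1).resolve_right (h3 _)

/-- elements with dual derivations are algebraically independent (characteristic zero) -/
theorem algebraicIndependent_of_derivations [Nontrivial A] {n : ℕ} (x : Fin n → A)
    (D : Fin n → Derivation k A A) (hD : ∀ j i, D j (x i) = if i = j then 1 else 0) :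
    AlgebraicIndependent k x := by
  classical
  have key : ∀ d : ℕ, ∀ f : MvPolynomial (Fin n) k, f.totalDegree ≤ d →
      MvPolynomial.aeval x f = 0 → f = 0 := by
    intro d
    induction d with
    | zero =>
      intro f hf h0
      rw [Nat.le_zero, MvPolynomial.totalDegree_eq_zero_iff_eq_C] at hf
      rw [hf, MvPolynomial.aeval_C] at h0
      rw [hf]
      have : MvPolynomial.coeff 0 f = 0 := by
        have hinj := (algebraMap k A).injective
        exact hinj (by rw [h0, map_zero])
      rw [this, map_zero]
    | succ d ih =>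
      intro f hf h0
      have h1 : ∀ j, MvPolynomial.pderiv j f = 0 := by
        intro j
        apply ih
        · exact le_trans (totalDegree_pderiv_le j f) (by omega)
        · have h2 := derivation_aeval x (D j) f
          rw [h0, map_zero] at h2
          simp only [hD, mul_ite, mul_one, mul_zero, Finset.sum_ite_eq', Finset.mem_univ,
            if_true] at h2
          exact h2.symm
      have h3 := eq_C_of_pderiv_eq_zero f h1
      rw [h3, MvPolynomial.aeval_C] at h0
      have : MvPolynomial.coeff 0 f = 0 := by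
        have hinj := (algebraMap k A).injective
        exact hinj (by rw [h0, map_zero])
      rw [h3, this, map_zero]
  rw [algebraicIndependent_iff]
  intro f hf
  exact key f.totalDegree f le_rfl hf

end AlgInd

end Groth.Agent.H9.UnipLie
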