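import Mathlib
import Groth.Agent.Lib.Helper9.UnipLie.Main
import Groth.Prelude.Def_LieHopf

/-!
# Unipotent groups in characteristic zero are determined by their Lie algebra (helper9)

Comodule-level statements: fixed vectors, subcomodules and comodule maps can be tested on the
`ε`-derivations `ξ : A → k`.
-/

set_option autoImplicit false

universe u w w'

open TensorProduct WithConv

namespace Groth.Agent.H9.UnipLie

section Lie

variable {k : Type u} [Field k] [CharZero k] {A : Type u} [CommRing A] [HopfAlgebra k A]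
variable (hU : HopfRep.IsUnipotent k A)

/-- the `ε`-derivation `φ ∘ elog` -/
noncomputable def lieOf (φ : A →ₗ[k] k) : LieHopf.Lie k A :=
  Derivation.mk' (show A →ₗ[k] LieHopf.K k A from φ ∘ₗ (elog hU).ofConv) (by
    intro a b
    show φ ((elog hU).ofConv (a * b)) = _
    rw [elog_mul, map_add, map_smul, map_smul, LieHopf.smul_def, LieHopf.smul_def]
    rfl)

lemma lTensor_lieOf {V : Type w} [AddCommGroup V] [Module k V] (φ : A →ₗ[k] k) (t : V ⊗[k] A) :
    LinearMap.lTensor V ((lieOf hU φ).toLinearMap.restrictScalars k) t =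
      (show V ⊗[k] LieHopf.K k A from LinearMap.lTensor V (φ ∘ₗ (elog hU).ofConv) t) := rfl

omit [CharZero k] in
lemma rid_rTensor {V : Type w} [AddCommGroup V] [Module k V] {W : Type w'} [AddCommGroup W]
    [Module k W] (f : V →ₗ[k] W) (y : V ⊗[k] k) :
    TensorProduct.rid k W (f.rTensor k y) = f (TensorProduct.rid k V y) := by
  induction y using TensorProduct.induction_on with
  | zero => simp
  | tmul v r => simp
  | add x y hx hy => simp only [map_add, hx, hy]

variable (k A) in
/-- `V ⊗ K → V` (`K` is `k` with its `A`-module structure through the counit) -/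
noncomputable def ridK (V : Type w) [AddCommGroup V] [Module k V] :
    V ⊗[k] LieHopf.K k A →ₗ[k] V :=
  show V ⊗[k] k →ₗ[k] V from (TensorProduct.rid k V).toLinearMap

omit [CharZero k] in
lemma ridK_rTensor {V : Type w} [AddCommGroup V] [Module k V] {W : Type w'} [AddCommGroup W]
    [Module k W] (f : V →ₗ[k] W) (y : V ⊗[k] LieHopf.K k A) :
    ridK k A W (f.rTensor (LieHopf.K k A) y) = f (ridK k A V y) :=
  rid_rTensor f y

omit [CharZero k] in
lemma eq_of_slice_eq {V : Type w} [AddCommGroup V] [Module k V] (x y : V ⊗[k] A)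
    (h : ∀ φ : A →ₗ[k] k, Comod.slice φ x = Comod.slice φ y) : x = y := by
  rw [← sub_eq_zero]
  apply Comod.eq_zero_of_slice_eq_zero
  intro φ
  rw [map_sub, h φ, sub_self]

include hU in
/-- closure principle for the truncated exponentials -/
lemma expTrunc_induction (P : WithConv (A →ₗ[k] A) → Prop) (h0 : P 0) (h1 : P 1)
    (he : P (elog hU)) (hmul : ∀ g h, P g → P h → P (g * h)) (hadd : ∀ g h, P g → P h → P (g + h))
    (hsmul : ∀ (r : k) g, P g → P (r • g)) (N : ℕ) : P (expTrunc hU N) := by
  have hpow : ∀ j : ℕ, P (elog hU ^ j) := by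
    intro j
    induction j with
    | zero => rw [pow_zero]; exact h1
    | succ j ih => rw [pow_succ]; exact hmul _ _ ih he
  rw [expTrunc]
  exact Finset.sum_induction _ P hadd h0 (fun j _ => hsmul _ _ (hpow j))

variable {V : Type u} [AddCommGroup V] [Module k V] [c : HopfRep.Comod k A V]

/-- slices of `T elog` are the infinitesimal actions -/
lemma slice_T_elog (φ : A →ₗ[k] k) (v : V) :
    Comod.slice φ (T c (elog hU) v) = ridK k A V
      (LinearMap.lTensor V ((lieOf hU φ).toLinearMap.restrictScalars k) (c.coact v)) := by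
  rw [slice_T, lTensor_lieOf]
  rfl

include hU in
/-- a vector killed by the Lie algebra is fixed -/
theorem coact_eq_of_lie_kills (v : V)
    (h : ∀ ξ : LieHopf.Lie k A,
      LinearMap.lTensor V (ξ.toLinearMap.restrictScalars k) (c.coact v) = 0) :
    c.coact v = v ⊗ₜ[k] (1 : A) := by
  have h1 : T c (elog hU) v = 0 := by
    apply Comod.eq_zero_of_slice_eq_zero
    intro φ
    rw [slice_T_elog, h, map_zero]
  have h2 : ∀ j : ℕ, T c (elog hU ^ (j + 1)) v = 0 := by
    intro j
    rw [pow_succ, T_mul_apply, h1, map_zero, map_zero]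
  obtain ⟨N₀, hN₀⟩ := coact_eq_T_expTrunc hU V c v
  rw [hN₀ (N₀ + 1) (Nat.le_succ _), expTrunc, T_sum, LinearMap.sum_apply,
    Finset.sum_eq_single 0]
  · rw [pow_zero, T_smul, LinearMap.smul_apply, T_one_apply]
    simp
  · intro j _ hj
    obtain ⟨j', rfl⟩ := Nat.exists_eq_succ_of_ne_zero hj
    rw [T_smul, LinearMap.smul_apply, h2, smul_zero]
  · intro h
    exact absurd (Finset.mem_range.mpr (Nat.succ_pos _)) h

include hU in
/-- a subspace stable under the Lie algebra is a subcomodule -/
theorem isSubcomod_of_lie_stable (W : Submodule k V)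
    (h : ∀ (ξ : LieHopf.Lie k A) (v : V), v ∈ W →
      LinearMap.lTensor V (ξ.toLinearMap.restrictScalars k) (c.coact v) ∈
        LinearMap.range (LinearMap.rTensor (LieHopf.K k A) W.subtype)) :
    HopfRep.IsSubcomod (k := k) (A := A) W := by
  have key : ∀ N : ℕ, ∀ v ∈ W, T c (expTrunc hU N) v ∈ LinearMap.range (W.subtype.rTensor A) := by
    intro N
    apply expTrunc_induction hU
      (fun g => ∀ v ∈ W, T c g v ∈ LinearMap.range (W.subtype.rTensor A))
    · intro v _
      rw [T_zero, LinearMap.zero_apply]
      exact zero_mem _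
    · intro v hv
      rw [T_one_apply]
      exact ⟨(⟨v, hv⟩ : W) ⊗ₜ[k] (1 : A), rfl⟩
    · intro v hv
      rw [Comod.mem_range_rTensor_iff_slice]
      intro φ
      rw [slice_T_elog]
      obtain ⟨y, hy⟩ := h (lieOf hU φ) v hv
      rw [← hy, ridK_rTensor]
      exact (ridK k A W y).2
    · intro g g' hg hg' v hv
      rw [T_mul_apply]
      obtain ⟨y, hy⟩ := hg' v hv
      rw [← hy]
      clear hy
      induction y using TensorProduct.induction_on with
      | zero => simp
      | tmul w a =>
        rw [LinearMap.rTensor_tmul, LinearMap.rTensor_tmul, Submodule.subtype_apply]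
        obtain ⟨s, hs⟩ := hg w w.2
        rw [← hs]
        refine ⟨mulR k A W (s ⊗ₜ[k] a), ?_⟩
        rw [← mulR_rTensor_rTensor, LinearMap.rTensor_tmul]
      | add x y hx hy =>
        rw [map_add, map_add, map_add]
        exact Submodule.add_mem _ hx hy
    · intro g g' hg hg' v hv
      rw [T_add, LinearMap.add_apply]
      exact Submodule.add_mem _ (hg v hv) (hg' v hv)
    · intro r g hg v hv
      rw [T_smul, LinearMap.smul_apply]
      exact Submodule.smul_mem _ _ (hg v hv)
  intro v hv
  obtain ⟨N₀, hN₀⟩ := coact_eq_T_expTrunc hU V c v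
  show c.coact v ∈ _
  rw [hN₀ N₀ le_rfl]
  exact key N₀ v hv

variable {V' : Type u} [AddCommGroup V'] [Module k V'] [c' : HopfRep.Comod k A V']

include hU in
/-- a linear map intertwining the Lie algebra actions is a comodule map -/
theorem coact_map_of_lie (e : V →ₗ[k] V')
    (h : ∀ (ξ : LieHopf.Lie k A) (f : V),
      LinearMap.lTensor V' (ξ.toLinearMap.restrictScalars k) (c'.coact (e f)) =
        LinearMap.rTensor (LieHopf.K k A) e
          (LinearMap.lTensor V (ξ.toLinearMap.restrictScalars k) (c.coact f))) :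
    ∀ f : V, c'.coact (e f) = LinearMap.rTensor A e (c.coact f) := by
  have key : ∀ N : ℕ, ∀ f : V, T c' (expTrunc hU N) (e f) = e.rTensor A (T c (expTrunc hU N) f) := by
    intro N
    apply expTrunc_induction hU (fun g => ∀ f : V, T c' g (e f) = e.rTensor A (T c g f))
    · intro f
      rw [T_zero, T_zero, LinearMap.zero_apply, LinearMap.zero_apply, map_zero]
    · intro f
      rw [T_one_apply, T_one_apply, LinearMap.rTensor_tmul]
    · intro f
      apply eq_of_slice_eq
      intro φ
      rw [slice_T_elog, h, Comod.slice_rTensor, slice_T_elog, ridK_rTensor]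
    · intro g g' hg hg' f
      have hcomp : T c' g ∘ₗ e = e.rTensor A ∘ₗ T c g := by
        apply LinearMap.ext; intro f
        exact hg f
      rw [T_mul_apply, hg' f, ← LinearMap.comp_apply (LinearMap.rTensor A (T c' g)),
        ← LinearMap.rTensor_comp, hcomp, LinearMap.rTensor_comp, LinearMap.comp_apply,
        mulR_rTensor_rTensor, T_mul_apply]
    · intro g g' hg hg' f
      rw [T_add, T_add, LinearMap.add_apply, LinearMap.add_apply, hg f, hg' f, map_add]
    · intro r g hg f
      rw [T_smul, T_smul, LinearMap.smul_apply, LinearMap.smul_apply, hg f, map_smul]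
  intro f
  obtain ⟨N₁, hN₁⟩ := coact_eq_T_expTrunc hU V' c' (e f)
  obtain ⟨N₂, hN₂⟩ := coact_eq_T_expTrunc hU V c f
  rw [hN₁ (max N₁ N₂) (le_max_left _ _), hN₂ (max N₁ N₂) (le_max_right _ _)]
  exact key _ f

end Lie

end Groth.Agent.H9.UnipLie
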